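import Cfsg.Agent.Lib.ExpTwoLength71.Module
import Cfsg.Agent.Lib.HallHigmanB.Step

/-!
# Lowering the length with a kernel centralising a normal `2`-subgroup
-/

set_option autoImplicit false
set_option linter.style.haveILetI false

namespace Cfsg.Agent.Lib.ExpTwoLength71

open Subgroup Cfsg
open Cfsg.Agent.Lib.PSolvable
open scoped IsMulCommutative

universe u

/-- The kernel for an elementary abelian normal subgroup. -/
theorem exists_kernel_normal {e : ℕ} (ih : LengthBound.{u} e) (he : 1 ≤ e) {Y : Type u} [Group Y]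
    [Finite Y] [Group.IsSolvable Y] (A : Subgroup Y) [A.Normal]
    (hc : ∀ a ∈ A, ∀ b ∈ A, a * b = b * a) (h2 : ∀ a ∈ A, a ^ 2 = 1)
    (hpow : ∀ (y : Y) (k : ℕ), y ^ 2 ^ k = 1 → ∀ a ∈ A, (a * y) ^ 2 ^ e = y ^ 2 ^ e) :
    ∃ (K : Subgroup Y) (_ : K.Normal),
      PLengthLE 2 (e - 1) (Y ⧸ K) ∧ ∀ x ∈ K, Odd (orderOf x) → ∀ a ∈ A, Commute x a := by
  haveI : IsMulCommutative A := ⟨⟨fun a b => Subtype.ext (hc a a.2 b b.2)⟩⟩
  obtain ⟨K, hKn, hK, hKa⟩ := exists_kernel ih he (Nat.card A) A (MulAut.conjNormal (H := A)) le_rfl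
    (fun a => Subtype.ext (h2 a a.2)) fun y k hk a => by
      have h1 := HallHigmanB.mul_pow_eq hc a y (2 ^ e)
      rw [hpow y k hk a a.2, right_eq_mul] at h1
      exact Subtype.ext h1
  refine ⟨K, hKn, hK, fun x hx hxo a ha => ?_⟩
  have h1 := congrArg Subtype.val (DFunLike.congr_fun (hKa x hx hxo) (⟨a, ha⟩ : A))
  rw [MulAut.conjNormal_apply, MulAut.one_apply] at h1
  exact mul_inv_eq_iff_eq_mul.1 h1

variable {G : Type u} [Group G] [Finite G]

/-- A normal subgroup of odd index over a `2`-group which its odd elements centralise. -/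
theorem le_of_odd_centralizes (hO : pPrimeCore 2 G = ⊥) {Z M : Subgroup G} [Z.Normal] [M.Normal]
    (hZ : IsPGroup 2 Z) (hrel : (Z.relIndex M).Coprime 2)
    (hcen : ∀ x ∈ M, Odd (orderOf x) → ∀ z ∈ Z, Commute x z) : M ≤ Z := by
  haveI : Fact (Nat.Prime 2) := ⟨Nat.prime_two⟩
  obtain ⟨a, ha⟩ := (hZ.comap_of_injective M.subtype M.subtype_injective).exists_card_eq
  have hcop : (Nat.card (Z.subgroupOf M)).Coprime (Z.subgroupOf M).index := by
    rw [show Nat.card (Z.subgroupOf M) = 2 ^ a from ha]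
    exact hrel.symm.pow_left a
  obtain ⟨Hc, hHc⟩ := exists_right_complement'_of_coprime hcop
  have hcard : Nat.card Hc = Z.relIndex M := hHc.symm.index_eq_card.symm
  have hodd : ∀ h ∈ Hc, Odd (orderOf (h : G)) := fun h hh => by
    rw [Subgroup.orderOf_coe]
    exact (Nat.coprime_two_right.1 (hcard ▸ hrel)).of_dvd_nat (Subgroup.orderOf_dvd_natCard _ hh)
  set O := Hc.map M.subtype with hOdef
  haveI hOn : O.Normal := by
    refine ⟨?_⟩
    rintro _ ⟨h, hh, rfl⟩ g
    set y : M := ⟨g * h * g⁻¹, Subgroup.Normal.conj_mem inferInstance _ h.2 g⟩ with hy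
    obtain ⟨⟨⟨z, hz⟩, ⟨h', hh'⟩⟩, hzh⟩ := hHc.2 y
    refine ⟨h', hh', ?_⟩
    have hzh' : (z : G) * (h' : G) = g * h * g⁻¹ := congrArg Subtype.val hzh
    have hcomm : Commute (z : G) h' := (hcen h' h'.2 (hodd h' hh') z (mem_subgroupOf.1 hz)).symm
    have hyo : orderOf (g * (h : G) * g⁻¹) = orderOf (h : G) := by
      rw [← MulAut.conj_apply, MulEquiv.orderOf_eq]
    have hz1 : (z : G) = 1 := by
      obtain ⟨n, hn⟩ := hZ ⟨z, mem_subgroupOf.1 hz⟩
      refine odd_pow_eq_one (j := orderOf (h : G) * orderOf (h' : G)) ?_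
        (congrArg Subtype.val hn :) ((hodd h hh).mul (hodd h' hh'))
      have h1 : (g * (h : G) * g⁻¹) ^ (orderOf (h : G) * orderOf (h' : G)) = 1 := by
        rw [pow_mul, ← hyo, pow_orderOf_eq_one, one_pow]
      rw [← hzh', hcomm.mul_pow, mul_comm (orderOf (h : G)), pow_mul (h' : G), pow_orderOf_eq_one,
        one_pow, mul_one, mul_comm (orderOf (h' : G))] at h1
      exact h1
    show (h' : G) = g * h * g⁻¹
    rw [← hzh', hz1, one_mul]
  have hO1 : O ≤ pPrimeCore 2 G := le_pPrimeCore (by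
    rw [hOdef, card_map_of_injective M.subtype_injective, hcard]
    exact hrel)
  rw [hO, le_bot_iff, hOdef, Subgroup.map_eq_bot_iff_of_injective _ M.subtype_injective] at hO1
  intro x hx
  obtain ⟨⟨⟨z, hz⟩, ⟨h, hh⟩⟩, hzh⟩ := hHc.2 ⟨x, hx⟩
  have h1 : h = 1 := mem_bot.1 (hO1 ▸ hh)
  have hzx : (z : G) * (h : G) = x := congrArg Subtype.val hzh
  rw [h1, OneMemClass.coe_one, mul_one] at hzx
  exact hzx ▸ mem_subgroupOf.1 hz

/-- **The combination.** -/
theorem pLengthLE_of_kernel [Group.IsSolvable G] {e : ℕ} (ih : LengthBound.{u} e) (he : 1 ≤ e)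
    (hO : pPrimeCore 2 G = ⊥) (Z : Subgroup G) [Z.Normal] (hZ : IsPGroup 2 Z)
    (hexp : ∀ (x : G) (k : ℕ), x ^ 2 ^ k = 1 → x ^ 2 ^ e ∈ Z) (K : Subgroup G) [K.Normal]
    (hK : PLengthLE 2 (e - 1) (G ⧸ K)) (hKZ : ∀ x ∈ K, Odd (orderOf x) → ∀ z ∈ Z, Commute x z) :
    PLengthLE 2 e G := by
  haveI : Fact (Nat.Prime 2) := ⟨Nat.prime_two⟩
  set π := QuotientGroup.mk' Z with hπ
  have hπs : Function.Surjective π := QuotientGroup.mk'_surjective Z
  haveI : Group.IsSolvable (G ⧸ Z) := Group.isSolvable_of_surjective hπs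
  have hQ : PLengthLE 2 e (G ⧸ Z) := ih (G ⧸ Z) fun x k hx => by
    obtain ⟨y, l, rfl, hy⟩ := exists_two_lift hπs hx
    rw [← map_pow]
    exact (QuotientGroup.eq_one_iff _).2 (hexp y l hy)
  have hZ0 : (upperPSeries 2 (G ⧸ Z) 0).1.comap π = Z := by
    rw [upperPSeries_zero, MonoidHom.comap_bot, QuotientGroup.ker_mk']
  set P₁ := (upperPSeries 2 (G ⧸ Z) 2).1.comap π with hP₁
  set L := (upperPSeries 2 (G ⧸ Z) 1).1.comap π with hL
  set J := K ⊓ P₁ with hJdef
  have hM : K ⊓ L ≤ Z := by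
    refine le_of_odd_centralizes hO hZ ?_ fun x hx => hKZ x hx.1
    refine Nat.Coprime.coprime_dvd_left (PLengthBound.relIndex_dvd_relIndex_right inf_le_right) ?_
    have h1 := PLengthBound.relIndex_upperPSeries_even (p := 2) (G := G ⧸ Z) Even.zero
    rw [← relIndex_comap_upperPSeries hπs, hZ0] at h1
    exact h1
  obtain ⟨m, hm⟩ : ∃ m, Nat.card J = 2 ^ m := by
    obtain ⟨a, ha⟩ := (hZ.to_le hM).exists_card_eq
    obtain ⟨b, hb⟩ := PLengthBound.relIndex_upperPSeries_odd (p := 2) (G := G ⧸ Z) (n := 1) (by simp)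
    have hd : (K ⊓ L).relIndex J ∣ 2 ^ b := by
      refine relIndex_inf_dvd_mul.trans (dvd_of_eq ?_)
      rw [relIndex_self, one_mul, hL, hP₁, relIndex_comap_upperPSeries hπs, hb]
    obtain ⟨i, -, hi⟩ := (Nat.dvd_prime_pow Nat.prime_two).1 hd
    refine ⟨a + i, ?_⟩
    rw [← card_mul_relIndex (inf_le_inf_left K (comap_mono (upperPSeries_le_succ 1)) : K ⊓ L ≤ J),
      ha, hi, pow_add]
  have hP : PLengthLE 2 (e - 1) (G ⧸ P₁) := by
    have h2 : PLengthLE 2 (e - 1) ((G ⧸ Z) ⧸ (upperPSeries 2 (G ⧸ Z) 2).1) := by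
      have hs := QuotientGroup.mk'_surjective (upperPSeries 2 (G ⧸ Z) 2).1
      have hc := comap_upperPSeries (p := 2) hs (by norm_num : Even 2) (QuotientGroup.ker_mk' _)
        (2 * (e - 1) + 1)
      unfold PLengthLE at hQ ⊢
      rw [show 2 * (e - 1) + 1 + 2 = 2 * e + 1 by omega, hQ] at hc
      exact comap_injective hs (hc.trans (comap_top _).symm)
    obtain ⟨φ, -⟩ := exists_quotient_equiv hπs P₁ (upperPSeries 2 (G ⧸ Z) 2).1 hP₁.symm
    exact PLengthBound.pLengthLE_of_surjective (f := φ.symm.toMonoidHom) φ.symm.surjective h2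
  have hGJ : PLengthLE 2 (e - 1) (G ⧸ J) := pLengthLE_quotient_inf hK hP
  set ψ := QuotientGroup.mk' J with hψ
  have hψs : Function.Surjective ψ := QuotientGroup.mk'_surjective J
  let V : ℕ → Subgroup G := fun n => if n < 2 then ⊥ else (upperPSeries 2 (G ⧸ J) (n - 2)).1.comap ψ
  have hV : ∀ n, V (n + 2) = (upperPSeries 2 (G ⧸ J) n).1.comap ψ := fun n => by
    show (if n + 2 < 2 then ⊥ else _) = _
    rw [if_neg (by omega), show n + 2 - 2 = n by omega]
  have hV0 : V 0 = ⊥ := rfl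
  have hV1 : V 1 = ⊥ := rfl
  refine pLengthLE_of_series e V (fun n => ?_) bot_le (fun j _ => ?_) (fun j _ => ?_) ?_
  · by_cases hn : n < 2
    · rw [show V n = ⊥ from if_pos hn]; infer_instance
    · rw [show V n = _ from if_neg hn]; infer_instance
  · cases j with
    | zero => rw [hV0, hV1, relIndex_self]; exact Nat.coprime_one_left 2
    | succ j =>
      rw [show 2 * (j + 1) + 1 = 2 * j + 1 + 2 by omega, show 2 * (j + 1) = 2 * j + 2 by omega, hV,
        hV, relIndex_comap_upperPSeries hψs]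
      exact PLengthBound.relIndex_upperPSeries_even (even_two_mul j)
  · cases j with
    | zero =>
      refine ⟨m, ?_⟩
      rw [hV1, show V (2 * 0 + 2) = J by
        rw [hV, upperPSeries_zero, MonoidHom.comap_bot, QuotientGroup.ker_mk'], relIndex_bot_left, hm]
    | succ j =>
      rw [show 2 * (j + 1) + 1 = 2 * j + 1 + 2 by omega,
        show 2 * (j + 1) + 2 = 2 * j + 2 + 2 by omega, hV, hV, relIndex_comap_upperPSeries hψs]
      exact PLengthBound.relIndex_upperPSeries_odd (by simp [parity_simps])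
  · rw [show 2 * e + 1 = 2 * (e - 1) + 1 + 2 by omega, hV, (hGJ : (upperPSeries 2 _ _).1 = ⊤),
      comap_top]

end Cfsg.Agent.Lib.ExpTwoLength71
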