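import Cfsg.Agent.Lib.ExpTwoLength71.Component
import Cfsg.Agent.Lib.ExpTwoLength71.Combine
import Cfsg.Agent.Lib.PPowerIndex.Basic

/-!
# The linear group above the first layer has smaller length

`H` is soluble with `O_2 = 1` and faithful in characteristic two without free cyclic summands of order
`2 ^ (e + 1)`. Modulo `O(H)` the `2 ^ e`-th powers generate a normal `2`-group; the two layers of the
elements of exponent four of a critical subgroup give the kernel lowering the length.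
-/

set_option autoImplicit false
set_option linter.style.haveILetI false

namespace Cfsg.Agent.Lib.ExpTwoLength71

open Module Subgroup Cfsg Cfsg.Agent.Lib.HallHigmanB
open Cfsg.Agent.Lib.PSolvable
open scoped commutatorElement

universe u

theorem sq_mem_gives_commutator {G : Type*} [Group G] {C D : Subgroup G}
    (h : ∀ g ∈ C, g ^ 2 ∈ D) {a b : G} (ha : a ∈ C) (hb : b ∈ C) : ⁅a, b⁆ ∈ D := by
  rw [show ⁅a, b⁆ = a ^ 2 * (a⁻¹ * b) ^ 2 * (b ^ 2)⁻¹ by
    rw [commutatorElement_def, pow_two, pow_two, pow_two]; group]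
  exact mul_mem (mul_mem (h a ha) (h _ (mul_mem (inv_mem ha) hb))) (inv_mem (h b hb))

/-- The elements of exponent four of a subgroup with central squares. -/
theorem exists_exp_four {G : Type*} [Group G] (C₁ : Subgroup G)
    (hsq : ∀ a ∈ C₁, ∀ b ∈ C₁, Commute (a ^ 2) b) :
    ∃ Cb : Subgroup G, ∀ c, c ∈ Cb ↔ c ∈ C₁ ∧ c ^ 4 = 1 := by
  refine ⟨
    { carrier := {c | c ∈ C₁ ∧ c ^ 4 = 1}
      one_mem' := ⟨one_mem _, one_pow 4⟩
      inv_mem' := fun {a} ha => ⟨inv_mem ha.1, by rw [inv_pow, ha.2, inv_one]⟩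
      mul_mem' := ?_ }, fun c => Iff.rfl⟩
  rintro a b ⟨ha, ha4⟩ ⟨hb, hb4⟩
  refine ⟨mul_mem ha hb, ?_⟩
  -- the commutator is central of order two
  set k := b * a * b⁻¹ * a⁻¹ with hk
  have hkC : k ∈ C₁ := mul_mem (mul_mem (mul_mem hb ha) (inv_mem hb)) (inv_mem ha)
  have hkc : ∀ x ∈ C₁, Commute k x := by
    intro x hx
    rw [show k = b ^ 2 * (b⁻¹ * a) ^ 2 * (a ^ 2)⁻¹ by
      rw [hk, pow_two, pow_two, pow_two]; group]
    exact ((hsq b hb x hx).mul_left (hsq _ (mul_mem (inv_mem hb) ha) x hx)).mul_left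
      (hsq a ha x hx).inv_left
  have hk2 : k ^ 2 = 1 := by
    have h1 : b * a ^ 2 * b⁻¹ = a ^ 2 := by
      rw [← (hsq a ha b hb).eq, mul_inv_cancel_right]
    have h2 : b * a * b⁻¹ = k * a := by rw [hk]; group
    rw [← conj_pow, h2, (hkc a ha).mul_pow, mul_eq_right] at h1
    exact h1
  have h1 : (a * b) ^ 2 = k * (a ^ 2 * b ^ 2) := by
    have h2 : b * a = k * (a * b) := by rw [hk]; group
    calc (a * b) ^ 2 = a * (b * a) * b := by rw [pow_two]; group
      _ = a * k * (a * b) * b := by rw [h2]; group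
      _ = k * a * (a * b) * b := by rw [(hkc a ha).eq]
      _ = _ := by rw [pow_two, pow_two]; group
  rw [show 4 = 2 * 2 from rfl, pow_mul, h1,
    ((hkc _ (pow_mem ha 2)).mul_right (hkc _ (pow_mem hb 2))).mul_pow, hk2, one_mul,
    (hsq a ha _ (pow_mem hb 2)).mul_pow, ← pow_mul, ← pow_mul, ha4, hb4, one_mul]

variable {H : Type u} [Group H] [Finite H]
variable {K V : Type*} [Field K] [IsAlgClosed K] [CharP K 2] [AddCommGroup V] [Module K V]
  [FiniteDimensional K V]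

set_option maxHeartbeats 1000000 in
/-- **Length below the first layer.** -/
theorem pLengthLE_of_noFree [Group.IsSolvable H] {e : ℕ} (ih : LengthBound.{u} e) (he : 1 ≤ e)
    (ρ : H →* Module.End K V) (hρ : Function.Injective ρ) (hO : pCore 2 H = ⊥) (hnil : NoFree ρ e) :
    PLengthLE 2 e H := by
  classical
  haveI : Fact (Nat.Prime 2) := ⟨Nat.prime_two⟩
  haveI hOn : (pPrimeCore 2 H).Normal := @normal_of_characteristic _ _ _ pPrimeCore_characteristic
  set q := QuotientGroup.mk' (pPrimeCore 2 H) with hq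
  have hqs : Function.Surjective q := QuotientGroup.mk'_surjective _
  refine pLengthLE_of_map_of_ker_le (f := q) hqs (QuotientGroup.ker_mk' _).le ?_
  haveI : Group.IsSolvable (H ⧸ pPrimeCore 2 H) := Group.isSolvable_of_surjective hqs
  set K₀ := powClosure e H with hK₀
  set Z := K₀.map q with hZdef
  haveI hZn : Z.Normal := Normal.map inferInstance q hqs
  have hZp : IsPGroup 2 Z :=
    pCore_isPGroup.to_le (map_le_iff_le_comap.2 (powClosure_le_pPrimePCore hρ hO hnil))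
  obtain ⟨C₀, hC₀⟩ := Critical.exists_critical hZp
  haveI := hC₀.char
  set C₁ := C₀.map Z.subtype with hC₁
  haveI hC₁n : C₁.Normal := ConjAct.normal_of_characteristic_of_normal
  have hC₁Z : C₁ ≤ Z := map_subtype_le _
  have hsq : ∀ a ∈ C₁, ∀ b ∈ C₁, Commute (a ^ 2) b := by
    rintro _ ⟨a, ha, rfl⟩ _ ⟨b, hb, rfl⟩
    rw [← map_pow]
    exact (show Commute (a ^ 2) b from
      (mem_centralizer_iff.1 (mem_inf.1 (hC₀.pow_mem a ha)).2 b hb).symm).map Z.subtype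
  obtain ⟨Cb, hCb⟩ := exists_exp_four C₁ hsq
  haveI hCbn : Cb.Normal := ⟨fun c hc g => (hCb _).2
    ⟨hC₁n.conj_mem _ ((hCb c).1 hc).1 g, by
      rw [conj_pow, ((hCb c).1 hc).2, mul_one, mul_inv_cancel]⟩⟩
  let Db : Subgroup (H ⧸ pPrimeCore 2 H) :=
    { carrier := {d | d ∈ Cb ∧ d ^ 2 = 1 ∧ ∀ c ∈ Cb, Commute d c}
      one_mem' := ⟨one_mem _, one_pow 2, fun c _ => Commute.one_left c⟩
      mul_mem' := fun {a b} ha hb => ⟨mul_mem ha.1 hb.1, by
        rw [(ha.2.2 b hb.1).mul_pow, ha.2.1, hb.2.1, one_mul],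
        fun c hc => (ha.2.2 c hc).mul_left (hb.2.2 c hc)⟩
      inv_mem' := fun {a} ha => ⟨inv_mem ha.1, by rw [inv_pow, ha.2.1, inv_one],
        fun c hc => (ha.2.2 c hc).inv_left⟩ }
  have hDb : ∀ d, d ∈ Db ↔ d ∈ Cb ∧ d ^ 2 = 1 ∧ ∀ c ∈ Cb, Commute d c := fun d => Iff.rfl
  haveI hDbn : Db.Normal := ⟨fun d hd g => (hDb _).2 ⟨hCbn.conj_mem d hd.1 g,
    by rw [conj_pow, hd.2.1, mul_one, mul_inv_cancel], fun c hc => by
      have h1 := (hd.2.2 _ (hCbn.conj_mem c hc g⁻¹)).map (MulAut.conj g).toMonoidHom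
      simpa [mul_assoc] using h1⟩⟩
  have hCsq : ∀ c ∈ Cb, c ^ 2 ∈ Db := by
    intro c hc
    refine (hDb _).2 ⟨pow_mem hc 2, ?_, fun b hb => hsq c ((hCb c).1 hc).1 b ((hCb b).1 hb).1⟩
    rw [← pow_mul]
    exact ((hCb c).1 hc).2
  -- lifting into a Sylow subgroup
  obtain ⟨T⟩ : Nonempty (Sylow 2 H) := inferInstance
  have hinj : ∀ t ∈ (T : Subgroup H), q t = 1 → t = 1 := by
    intro t ht hqt
    obtain ⟨n, hn⟩ := T.isPGroup' ⟨t, ht⟩
    rw [← orderOf_eq_one_iff]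
    exact Nat.eq_one_of_dvd_coprimes ((pPrimeCore_coprime (p := 2) (G := H)).pow_right n)
      (Subgroup.orderOf_dvd_natCard _ ((QuotientGroup.eq_one_iff t).1 hqt))
      (orderOf_dvd_of_pow_eq_one (congrArg Subtype.val hn :))
  have hinj' : ∀ s ∈ (T : Subgroup H), ∀ t ∈ (T : Subgroup H), q s = q t → s = t := fun s hs t ht h =>
    mul_inv_eq_one.1 (hinj _ (mul_mem hs (inv_mem ht)) (by rw [map_mul, map_inv, h, mul_inv_cancel]))
  set C := (T : Subgroup H) ⊓ K₀ ⊓ Cb.comap q with hCdef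
  have hlift : ∀ c ∈ Cb, ∃ t ∈ C, q t = c := by
    intro c hc
    have hcZ : c ∈ Z := hC₁Z ((hCb c).1 hc).1
    obtain ⟨t, ht, hqt⟩ : c ∈ (T : Subgroup H).map q := by
      rw [← Sylow.coe_mapSurjective hqs]
      exact hZp.le_sylow_of_normal _ hcZ
    obtain ⟨k, hk, hqk⟩ := hcZ
    refine ⟨t, mem_inf.2 ⟨mem_inf.2 ⟨ht, ?_⟩, mem_comap.2 (hqt.symm ▸ hc)⟩, hqt⟩
    set o := k⁻¹ * t with ho
    have hoO : o ∈ pPrimeCore 2 H := by
      rw [← QuotientGroup.eq_one_iff]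
      show q (k⁻¹ * t) = 1
      rw [map_mul, map_inv, hqk, hqt, inv_mul_cancel]
    have h1 : (t : H ⧸ K₀) = (o : H ⧸ K₀) := by
      rw [ho, QuotientGroup.mk_mul, QuotientGroup.mk_inv, (QuotientGroup.eq_one_iff k).2 hk,
        inv_one, one_mul]
    obtain ⟨n, hn⟩ := T.isPGroup' ⟨t, ht⟩
    rw [← QuotientGroup.eq_one_iff, h1, ← orderOf_eq_one_iff]
    refine Nat.eq_one_of_dvd_coprimes ((pPrimeCore_coprime (p := 2) (G := H)).pow_right n)
      ((orderOf_map_dvd (QuotientGroup.mk' K₀) o).trans (Subgroup.orderOf_dvd_natCard _ hoO)) ?_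
    refine orderOf_dvd_of_pow_eq_one (?_ : (o : H ⧸ K₀) ^ 2 ^ n = 1)
    rw [← h1, ← QuotientGroup.mk_pow, show t ^ 2 ^ n = 1 from congrArg Subtype.val hn,
      QuotientGroup.mk_one]
  let D : Subgroup H :=
    { carrier := {d | d ∈ C ∧ d ^ 2 = 1 ∧ ∀ c ∈ C, Commute d c}
      one_mem' := ⟨one_mem _, one_pow 2, fun c _ => Commute.one_left c⟩
      mul_mem' := fun {a b} ha hb => ⟨mul_mem ha.1 hb.1, by
        rw [(ha.2.2 b hb.1).mul_pow, ha.2.1, hb.2.1, one_mul],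
        fun c hc => (ha.2.2 c hc).mul_left (hb.2.2 c hc)⟩
      inv_mem' := fun {a} ha => ⟨inv_mem ha.1, by rw [inv_pow, ha.2.1, inv_one],
        fun c hc => (ha.2.2 c hc).inv_left⟩ }
  have hCT : C ≤ (T : Subgroup H) := inf_le_left.trans inf_le_left
  have hD : ∀ c ∈ C, q c ∈ Db → c ∈ D := by
    intro c hc hqc
    obtain ⟨-, h2, h3⟩ := (hDb _).1 hqc
    refine ⟨hc, ?_, fun x hx => ?_⟩
    · exact hinj _ (pow_mem (hCT hc) 2) (by rw [map_pow, h2])
    · exact hinj' _ (mul_mem (hCT hc) (hCT hx)) _ (mul_mem (hCT hx) (hCT hc))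
        (by rw [map_mul, map_mul]; exact (h3 _ hx.2).eq)
  have hsmall : Small (T : Subgroup H) C D := by
    refine ⟨T.isPGroup', hCT, ?_, fun c hc => hD _ (pow_mem hc 2) (by
      rw [map_pow]; exact hCsq _ hc.2), fun d => Iff.rfl⟩
    intro s hs c hc
    obtain ⟨hcTK, hcC⟩ := mem_inf.1 hc
    obtain ⟨hcT, hcK⟩ := mem_inf.1 hcTK
    refine mem_inf.2 ⟨mem_inf.2 ⟨mul_mem (mul_mem hs hcT) (inv_mem hs),
      Subgroup.Normal.conj_mem inferInstance c hcK s⟩, ?_⟩
    show q (s * c * s⁻¹) ∈ Cb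
    rw [map_mul, map_mul, map_inv]
    exact hCbn.conj_mem _ hcC _
  -- translates in the quotient
  have hkey : ∀ (y : H ⧸ pPrimeCore 2 H) (k : ℕ), y ^ 2 ^ k = 1 → ∀ c ∈ Cb,
      (c * y) ^ 2 ^ e * (y ^ 2 ^ e)⁻¹ ∈ Db ∧ (c ∈ Db → (c * y) ^ 2 ^ e = y ^ 2 ^ e) := by
    intro y k hk c hc
    have hz : IsPGroup 2 (zpowers y) := by
      intro g
      obtain ⟨i, hi⟩ := mem_zpowers_iff.1 g.2
      refine ⟨k, Subtype.ext ?_⟩
      rw [SubmonoidClass.coe_pow, ← hi, ← zpow_natCast, ← zpow_mul, mul_comm, zpow_mul,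
        zpow_natCast, hk, one_zpow, OneMemClass.coe_one]
    obtain ⟨P, hP⟩ := hz.exists_le_sylow
    obtain ⟨g, hg⟩ := MulAction.exists_smul_eq (H ⧸ pPrimeCore 2 H) (T.mapSurjective hqs) P
    obtain ⟨_, ⟨s, hs, rfl⟩, hy⟩ : ∃ y₀ ∈ (T : Subgroup H).map q, g * y₀ * g⁻¹ = y := by
      have h1 := hP (mem_zpowers y)
      rw [← hg, Sylow.coe_subgroup_smul, Subgroup.pointwise_smul_def, Sylow.coe_mapSurjective] at h1
      obtain ⟨y₀, hy₀, he'⟩ := h1
      exact ⟨y₀, hy₀, he'⟩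
    obtain ⟨t, ht, hqt⟩ := hlift _ (hCbn.conj_mem c hc g⁻¹)
    rw [inv_inv] at hqt
    obtain ⟨hN, hND⟩ := translate_mem hρ hO hnil hsmall
      (inf_le_left.trans inf_le_right : C ≤ K₀) hs ht
    have e1 : c * y = g * q (t * s) * g⁻¹ := by
      rw [map_mul, hqt, ← hy]; group
    have e2 : (c * y) ^ 2 ^ e * (y ^ 2 ^ e)⁻¹ =
        g * q ((t * s) ^ 2 ^ e * (s ^ 2 ^ e)⁻¹) * g⁻¹ := by
      rw [e1, ← hy, conj_pow, conj_pow, map_mul q ((t * s) ^ 2 ^ e), map_inv, map_pow, map_pow]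
      group
    refine ⟨?_, fun hcD => ?_⟩
    · rw [e2]
      refine hDbn.conj_mem _ ((hDb _).2 ?_) g
      obtain ⟨hN1, hN2, hN3⟩ := hN
      refine ⟨hN1.2, by rw [← map_pow, hN2, map_one], fun b hb => ?_⟩
      obtain ⟨x, hx, rfl⟩ := hlift b hb
      exact (hN3 x hx).map q
    · have h1 : t ∈ D := hD t ht (by
        rw [hqt]
        simpa using hDbn.conj_mem c hcD g⁻¹)
      rw [← mul_inv_eq_one, e2, hND h1, mul_inv_cancel, map_one, mul_one, mul_inv_cancel]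
  -- the two kernels
  have hDc : ∀ a ∈ Db, ∀ b ∈ Db, a * b = b * a := fun a ha b hb => ha.2.2 b hb.1
  obtain ⟨K₁, _, hK₁, hK₁c⟩ := exists_kernel_normal ih he Db hDc (fun a ha => ha.2.1)
    fun y k hk a ha => (hkey y k hk a ha.1).2 ha
  set r := QuotientGroup.mk' Db with hr
  have hrs : Function.Surjective r := QuotientGroup.mk'_surjective Db
  haveI : Group.IsSolvable ((H ⧸ pPrimeCore 2 H) ⧸ Db) := Group.isSolvable_of_surjective hrs
  haveI : (Cb.map r).Normal := Normal.map inferInstance r hrs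
  obtain ⟨K₂, _, hK₂, hK₂c⟩ := exists_kernel_normal ih he (Cb.map r)
    (by
      rintro _ ⟨a, ha, rfl⟩ _ ⟨b, hb, rfl⟩
      rw [← commutatorElement_eq_one_iff_mul_comm, ← map_commutatorElement]
      exact (QuotientGroup.eq_one_iff _).2 (sq_mem_gives_commutator hCsq ha hb))
    (by
      rintro _ ⟨a, ha, rfl⟩
      rw [← map_pow]
      exact (QuotientGroup.eq_one_iff _).2 (hCsq a ha))
    (by
      rintro y k hk _ ⟨a, ha, rfl⟩
      obtain ⟨y', l, rfl, hy'⟩ := exists_two_lift hrs hk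
      rw [← map_mul, ← map_pow, ← map_pow, ← mul_inv_eq_one, ← map_inv, ← map_mul]
      exact (QuotientGroup.eq_one_iff _).2 (hkey y' l hy' a ha).1)
  have hK₂' : PLengthLE 2 (e - 1) ((H ⧸ pPrimeCore 2 H) ⧸ K₂.comap r) := by
    obtain ⟨φ, -⟩ := exists_quotient_equiv hrs (K₂.comap r) K₂ rfl
    exact PLengthBound.pLengthLE_of_surjective (f := φ.symm.toMonoidHom) φ.symm.surjective hK₂
  refine pLengthLE_of_kernel ih he pPrimeCore_quotient_eq_bot Z hZp (fun x k hx => ?_)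
    (K₁ ⊓ K₂.comap r) (pLengthLE_quotient_inf hK₁ hK₂') fun x hx hxo => ?_
  · obtain ⟨u, l, rfl, hu⟩ := exists_two_lift hqs hx
    rw [← map_pow]
    exact mem_map_of_mem q (pow_mem_powClosure hu)
  have hxCb : ∀ c ∈ Cb, Commute x c := by
    intro c hc
    have h1 : Commute (r x) (r c) := hK₂c _ hx.2 (hxo.of_dvd_nat (orderOf_map_dvd r x)) _
      (mem_map_of_mem r hc)
    set d := c⁻¹ * (x * c * x⁻¹) with hd
    have hdD : d ∈ Db := by
      rw [← QuotientGroup.eq_one_iff]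
      show r (c⁻¹ * (x * c * x⁻¹)) = 1
      rw [map_mul, map_mul, map_mul, map_inv, map_inv, h1.eq, mul_inv_cancel_right, inv_mul_cancel]
    have hfix : Commute x d := hK₁c x hx.1 hxo d hdD
    have hit : ∀ n : ℕ, x ^ n * c * (x ^ n)⁻¹ = c * d ^ n := by
      intro n
      induction n with
      | zero => simp
      | succ n ihn =>
        calc x ^ (n + 1) * c * (x ^ (n + 1))⁻¹ = x * (x ^ n * c * (x ^ n)⁻¹) * x⁻¹ := by
              rw [pow_succ']; group
          _ = x * c * x⁻¹ * (x * d ^ n * x⁻¹) := by rw [ihn]; group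
          _ = c * d * d ^ n := by rw [(hfix.pow_right n).eq, mul_inv_cancel_right, hd]; group
          _ = c * d ^ (n + 1) := by rw [pow_succ', mul_assoc]
    have h2 := hit (orderOf x)
    rw [pow_orderOf_eq_one, one_mul, inv_one, mul_one, left_eq_mul] at h2
    have hd1 : d = 1 := odd_pow_eq_one h2 (n := 1) (by rw [pow_one]; exact hdD.2.1) hxo
    rw [hd, inv_mul_eq_one] at hd1
    exact mul_inv_eq_iff_eq_mul.1 hd1.symm
  have hxC₁ : ∀ c ∈ C₁, Commute x c := fun c hc =>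
    PPowerIndex.commute_of_commute_omega (p := 2) (Nat.coprime_two_right.2 hxo) (hZp.to_le hC₁Z)
      (fun y hy => hC₁n.conj_mem y hy x)
      (fun y hy hy4 => hxCb y ((hCb y).2 ⟨hy, by simpa using hy4⟩)) c hc
  have hxZ : zpowers x ≤ centralizer (Z : Set (H ⧸ pPrimeCore 2 H)) := by
    refine Critical.le_centralizer_of_le_centralizer_critical hC₁Z
      (commutator_le.2 fun a _ b hb => mul_mem (hC₁n.conj_mem _ hb a) (inv_mem hb)) ?_
      ((normalizer_eq_top_iff.2 hZn).symm ▸ le_top) ?_ ?_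
    · rintro y ⟨hyZ, hyC⟩
      refine ⟨⟨y, hyZ⟩, hC₀.centralizer_le (mem_centralizer_iff.2 fun c hc => Subtype.ext ?_), rfl⟩
      exact mem_centralizer_iff.1 hyC c ⟨c, hc, rfl⟩
    · obtain ⟨n, hn⟩ := hZp.exists_card_eq
      rw [Nat.card_zpowers, hn]
      exact (Nat.coprime_two_right.2 hxo).pow_right n
    · rw [zpowers_le, mem_centralizer_iff]
      exact fun c hc => (hxC₁ c hc).eq.symm
  exact fun z hz => ((mem_centralizer_iff.1 (hxZ (mem_zpowers x))) z hz).symm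

end Cfsg.Agent.Lib.ExpTwoLength71
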