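import Mathlib
import Cfsg.Agent.S0205
import Cfsg.Agent.Lib.PSolvable.Series
import Cfsg.Agent.Lib.PLengthBound.Basic

/-!
# Generalities on the `2`-length: comparing series, subdirect products, `2`-elements
-/

set_option autoImplicit false

namespace Cfsg.Agent.Lib.ExpTwoLength71

open Subgroup Cfsg
open Cfsg.Agent.Lib.PSolvable

universe u

/-- The exponent of the `2`-elements divides `2 ^ e`. -/
def TwoExp (e : ℕ) (G : Type*) [Group G] : Prop :=
  ∀ (x : G) (k : ℕ), x ^ 2 ^ k = 1 → x ^ 2 ^ e = 1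

theorem twoExp_of_sylow {G : Type*} [Group G] {e : ℕ}
    (h : ∀ (P : Sylow 2 G), ∀ x ∈ (P : Subgroup G), x ^ 2 ^ e = 1) : TwoExp e G := by
  intro x k hk
  have hz : IsPGroup 2 (zpowers x) := by
    intro g
    obtain ⟨i, hi⟩ := mem_zpowers_iff.1 g.2
    refine ⟨k, Subtype.ext ?_⟩
    rw [SubmonoidClass.coe_pow, ← hi, ← zpow_natCast, ← zpow_mul, mul_comm, zpow_mul, zpow_natCast,
      hk, one_zpow, OneMemClass.coe_one]
  obtain ⟨P, hP⟩ := hz.exists_le_sylow
  exact h P x (hP (mem_zpowers x))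

/-- A `2`-element of an image is the image of a `2`-element. -/
theorem exists_two_lift {G H : Type*} [Group G] [Finite G] [Group H] {f : G →* H}
    (hf : Function.Surjective f) {x : H} {k : ℕ} (hx : x ^ 2 ^ k = 1) :
    ∃ (y : G) (l : ℕ), f y = x ∧ y ^ 2 ^ l = 1 := by
  obtain ⟨y, rfl⟩ := hf x
  have hn : orderOf y ≠ 0 := (orderOf_pos y).ne'
  set d := orderOf y / 2 ^ (orderOf y).factorization 2 with hd
  have hdodd : d.Coprime (2 ^ k) :=
    ((Nat.coprime_ordCompl Nat.prime_two hn).pow_left k).symm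
  obtain ⟨j, hj⟩ := exists_pow_eq_self_of_coprime (n := d) (x := f y)
    (hdodd.coprime_dvd_right (orderOf_dvd_of_pow_eq_one hx))
  refine ⟨y ^ (d * j), (orderOf y).factorization 2, ?_, ?_⟩
  · rw [map_pow, pow_mul]; exact hj
  · rw [← pow_mul, mul_comm d j, mul_assoc, mul_comm d, Nat.ordProj_mul_ordCompl_eq_self, mul_comm,
      pow_mul, pow_orderOf_eq_one, one_pow]

theorem TwoExp.of_surjective {G H : Type*} [Group G] [Finite G] [Group H] {e : ℕ} (h : TwoExp e G)
    {f : G →* H} (hf : Function.Surjective f) : TwoExp e H := by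
  intro x k hx
  obtain ⟨y, l, rfl, hy⟩ := exists_two_lift hf hx
  rw [← map_pow, h y l hy, map_one]

/-- An element of odd order fixed modulo exponent two is fixed. -/
theorem odd_pow_eq_one {G : Type*} [Group G] {x : G} {j n : ℕ} (hj : x ^ j = 1) (hn : x ^ 2 ^ n = 1)
    (ho : Odd j) : x = 1 := by
  have h := pow_gcd_eq_one.2 ⟨hj, hn⟩
  rwa [((Nat.coprime_two_right.2 ho).pow_right n).gcd_eq_one, pow_one] at h

/-- A series with the right factors bounds the `p`-length. -/
theorem pLengthLE_of_series {G : Type*} [Group G] [Finite G] {p : ℕ} [Fact p.Prime] (k : ℕ)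
    (V : ℕ → Subgroup G) (hn : ∀ n, (V n).Normal) (h0 : V 0 ≤ (upperPSeries p G 1).1)
    (he : ∀ j, j ≤ k → ((V (2 * j)).relIndex (V (2 * j + 1))).Coprime p)
    (ho : ∀ j, j < k → ∃ m, (V (2 * j + 1)).relIndex (V (2 * j + 2)) = p ^ m)
    (htop : V (2 * k + 1) = ⊤) : PLengthLE p k G := by
  have key : ∀ j, j ≤ k → V (2 * j + 1) ≤ (upperPSeries p G (2 * j + 1)).1 := by
    intro j
    induction j with
    | zero =>
      intro _
      haveI := hn (2 * 0 + 1)
      exact PLengthBound.le_of_coprime h0 (he 0 k.zero_le)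
    | succ j ih =>
      intro hjk
      haveI := hn (2 * j + 2)
      haveI := hn (2 * (j + 1) + 1)
      obtain ⟨m, hm⟩ := ho j (by omega)
      have h2 := PLengthBound.le_succ_of_pow (ih (by omega)) hm
      refine PLengthBound.le_of_coprime (A := V (2 * (j + 1))) ?_ (he (j + 1) hjk)
      exact (h2.trans (upperPSeries_le_succ _) : V (2 * j + 2) ≤ _)
  have h := key k le_rfl
  rw [htop, top_le_iff] at h
  exact h

theorem pLengthLE_mono {G : Type*} [Group G] {p k l : ℕ} (hkl : k ≤ l) (h : PLengthLE p k G) :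
    PLengthLE p l G := by
  unfold PLengthLE at h ⊢
  exact top_le_iff.1 (h ▸ upperPSeries_mono (by omega))

/-- The upper series pulled back along a surjection. -/
theorem relIndex_comap_upperPSeries {G H : Type*} [Group G] [Group H] {p : ℕ} {f : G →* H}
    (hf : Function.Surjective f) (i j : ℕ) :
    ((upperPSeries p H i).1.comap f).relIndex ((upperPSeries p H j).1.comap f) =
      (upperPSeries p H i).1.relIndex (upperPSeries p H j).1 := by
  rw [relIndex_comap, map_comap_eq_self_of_surjective hf]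

/-- A kernel inside `O_{p'}` does not change the bound. -/
theorem pLengthLE_of_map_of_ker_le {G H : Type*} [Group G] [Finite G] [Group H] [Finite H] {p : ℕ}
    [Fact p.Prime] {k : ℕ} {f : G →* H} (hf : Function.Surjective f)
    (hker : f.ker ≤ pPrimeCore p G) (h : PLengthLE p k H) : PLengthLE p k G := by
  refine pLengthLE_of_series k (fun n => (upperPSeries p H n).1.comap f)
    (fun n => inferInstance) ?_ ?_ ?_ ?_
  · show (upperPSeries p H 0).1.comap f ≤ _
    rwa [upperPSeries_zero, MonoidHom.comap_bot, upperPSeries_one]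
  · intro j _
    rw [relIndex_comap_upperPSeries hf]
    exact PLengthBound.relIndex_upperPSeries_even (even_two_mul j)
  · intro j _
    rw [relIndex_comap_upperPSeries hf]
    exact PLengthBound.relIndex_upperPSeries_odd (by simp [parity_simps])
  · unfold PLengthLE at h
    show (upperPSeries p H (2 * k + 1)).1.comap f = ⊤
    rw [h, comap_top]

theorem relIndex_inf_dvd_mul {G : Type*} [Group G] [Finite G] {C₁ C₂ D₁ D₂ : Subgroup G} [C₁.Normal]
    [C₂.Normal] : (C₁ ⊓ C₂).relIndex (D₁ ⊓ D₂) ∣ C₁.relIndex D₁ * C₂.relIndex D₂ := by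
  rw [← inf_relIndex_right (C₁ ⊓ C₂) (D₁ ⊓ D₂),
    ← relIndex_mul_relIndex ((C₁ ⊓ C₂) ⊓ (D₁ ⊓ D₂)) (C₁ ⊓ (D₁ ⊓ D₂)) (D₁ ⊓ D₂)
      (le_inf (inf_le_left.trans inf_le_left) inf_le_right) inf_le_right, inf_relIndex_right C₁,
    mul_comm]
  refine Nat.mul_dvd_mul (PLengthBound.relIndex_dvd_relIndex_right inf_le_left) ?_
  have e : (C₁ ⊓ C₂) ⊓ (D₁ ⊓ D₂) = C₂ ⊓ (C₁ ⊓ (D₁ ⊓ D₂)) := by
    rw [inf_comm C₁ C₂, inf_assoc]
  rw [e, inf_relIndex_right]
  exact PLengthBound.relIndex_dvd_relIndex_right (inf_le_right.trans inf_le_right)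

/-- Two quotients of small length with kernels meeting trivially. -/
theorem pLengthLE_of_two {G H₁ H₂ : Type*} [Group G] [Finite G] [Group H₁] [Finite H₁] [Group H₂]
    [Finite H₂] {p : ℕ} [hp : Fact p.Prime] {k : ℕ} {f₁ : G →* H₁} {f₂ : G →* H₂}
    (hf₁ : Function.Surjective f₁) (hf₂ : Function.Surjective f₂) (hker : f₁.ker ⊓ f₂.ker = ⊥)
    (h₁ : PLengthLE p k H₁) (h₂ : PLengthLE p k H₂) : PLengthLE p k G := by
  refine pLengthLE_of_series k
    (fun n => (upperPSeries p H₁ n).1.comap f₁ ⊓ (upperPSeries p H₂ n).1.comap f₂)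
    (fun n => inferInstance) ?_ ?_ ?_ ?_
  · show (upperPSeries p H₁ 0).1.comap f₁ ⊓ (upperPSeries p H₂ 0).1.comap f₂ ≤ _
    rw [upperPSeries_zero, upperPSeries_zero, MonoidHom.comap_bot, MonoidHom.comap_bot, hker]
    exact bot_le
  · intro j _
    refine Nat.Coprime.coprime_dvd_left relIndex_inf_dvd_mul ?_
    rw [relIndex_comap_upperPSeries hf₁, relIndex_comap_upperPSeries hf₂]
    exact Nat.Coprime.mul_left (PLengthBound.relIndex_upperPSeries_even (even_two_mul j))
      (PLengthBound.relIndex_upperPSeries_even (even_two_mul j))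
  · intro j _
    have ho : ¬ Even (2 * j + 1) := by simp [parity_simps]
    obtain ⟨m₁, hm₁⟩ := PLengthBound.relIndex_upperPSeries_odd (p := p) (G := H₁) ho
    obtain ⟨m₂, hm₂⟩ := PLengthBound.relIndex_upperPSeries_odd (p := p) (G := H₂) ho
    have hd : ((upperPSeries p H₁ (2 * j + 1)).1.comap f₁ ⊓
        (upperPSeries p H₂ (2 * j + 1)).1.comap f₂).relIndex
        ((upperPSeries p H₁ (2 * j + 2)).1.comap f₁ ⊓
          (upperPSeries p H₂ (2 * j + 2)).1.comap f₂) ∣ p ^ (m₁ + m₂) := by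
      refine relIndex_inf_dvd_mul.trans (dvd_of_eq ?_)
      rw [relIndex_comap_upperPSeries hf₁, relIndex_comap_upperPSeries hf₂, hm₁, hm₂, pow_add]
    obtain ⟨i, -, hi⟩ := (Nat.dvd_prime_pow hp.out).1 hd
    exact ⟨i, hi⟩
  · unfold PLengthLE at h₁ h₂
    show (upperPSeries p H₁ (2 * k + 1)).1.comap f₁ ⊓ (upperPSeries p H₂ (2 * k + 1)).1.comap f₂ = ⊤
    rw [h₁, h₂, comap_top, comap_top, inf_idem]

/-- The quotient by the meet of two kernels. -/
theorem pLengthLE_quotient_inf {G : Type*} [Group G] [Finite G] {p : ℕ} [Fact p.Prime] {k : ℕ}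
    {A B : Subgroup G} [A.Normal] [B.Normal] (hA : PLengthLE p k (G ⧸ A))
    (hB : PLengthLE p k (G ⧸ B)) : PLengthLE p k (G ⧸ (A ⊓ B)) := by
  refine pLengthLE_of_two
    (f₁ := QuotientGroup.map (A ⊓ B) A (MonoidHom.id G) inf_le_left)
    (f₂ := QuotientGroup.map (A ⊓ B) B (MonoidHom.id G) inf_le_right) ?_ ?_ ?_ hA hB
  · intro x
    obtain ⟨g, rfl⟩ := QuotientGroup.mk_surjective x
    exact ⟨(g : G ⧸ (A ⊓ B)), rfl⟩
  · intro x
    obtain ⟨g, rfl⟩ := QuotientGroup.mk_surjective x
    exact ⟨(g : G ⧸ (A ⊓ B)), rfl⟩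
  · rw [eq_bot_iff]
    intro x hx
    obtain ⟨g, rfl⟩ := QuotientGroup.mk_surjective x
    rw [mem_inf, MonoidHom.mem_ker, MonoidHom.mem_ker] at hx
    rw [mem_bot, QuotientGroup.eq_one_iff, mem_inf]
    exact ⟨(QuotientGroup.eq_one_iff g).1 hx.1, (QuotientGroup.eq_one_iff g).1 hx.2⟩

/-- A finite `2`-soluble group is soluble. -/
theorem isSolvable_of_isPSolvable_two {G : Type u} [Group G] [Finite G] (h : IsPSolvable 2 G) :
    Group.IsSolvable G := by
  haveI : Fact (Nat.Prime 2) := ⟨Nat.prime_two⟩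
  obtain ⟨n, H, h0, hlast, hmono, hnorm, hfac⟩ := h
  have key : ∀ i : Fin (n + 1), Group.IsSolvable (H i) := by
    intro i
    induction i using Fin.induction with
    | zero =>
      rw [h0]
      infer_instance
    | succ i ih =>
      haveI := ih
      haveI := hnorm i.castSucc
      have hle : H i.castSucc ≤ H i.succ := hmono Fin.castSucc_lt_succ.le
      haveI : Group.IsSolvable (H i.succ ⧸ (H i.castSucc).subgroupOf (H i.succ)) := by
        rcases hfac i with ⟨m, hm⟩ | hcop
        · have h2 : IsPGroup 2 (H i.succ ⧸ (H i.castSucc).subgroupOf (H i.succ)) :=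
            IsPGroup.of_card (n := m) hm
          haveI := h2.isNilpotent
          infer_instance
        · refine Cfsg.Agent.S0205.result ?_
          exact Nat.coprime_two_right.1 hcop
      exact Group.isSolvable_of_ker_le_range (Subgroup.inclusion hle)
        (QuotientGroup.mk' ((H i.castSucc).subgroupOf (H i.succ)))
        (fun x hx => ⟨⟨x, by
          rw [QuotientGroup.ker_mk'] at hx
          exact hx⟩, Subtype.ext rfl⟩)
  haveI := key (Fin.last n)
  exact Group.isSolvable_of_surjective (G := H (Fin.last n))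
    (f := (H (Fin.last n)).subtype) fun g => ⟨⟨g, hlast ▸ mem_top g⟩, rfl⟩

end Cfsg.Agent.Lib.ExpTwoLength71
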