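import Cfsg.Agent.Lib.GrossTwo.Plane

/-!
# Translates of an exceptional element by a subgroup of exponent four

`σ` is exceptional in a `2`-group `S` of isometries, with `y = σ ^ 2 ^ (m - 1)`, and `π` runs over a
normal subgroup `C` of class two and exponent four. Then `(π * σ) ^ 2 ^ (m - 1)` differs from `y` by a
central involution of `C`, and by nothing if `π` is one of these.
-/

set_option autoImplicit false
set_option linter.unusedSectionVars false

namespace Cfsg.Agent.Lib.ExpTwoLength71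

open Subgroup Cfsg.Agent.Lib.HallHigmanFermat Cfsg.Agent.Lib.GrossTwo
open scoped commutatorElement

variable {X U : Type*} [CommGroup X] [Finite X] [CommGroup U] {q : ℕ} [hq : Fact q.Prime]
  {c : X →* X →* U}

theorem apply_apply_inv (g : MulAut X) (x : X) : g (g⁻¹ x) = x := by
  rw [← MulAut.mul_apply, mul_inv_cancel, MulAut.one_apply]

theorem inv_apply_apply (g : MulAut X) (x : X) : g⁻¹ (g x) = x := by
  rw [← MulAut.mul_apply, inv_mul_cancel, MulAut.one_apply]

theorem not_two_dvd (hXq : IsPGroup q X) (hq2 : q ≠ 2) : ¬ 2 ∣ Nat.card X := by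
  intro h
  obtain ⟨k, hk⟩ := hXq.exists_card_eq
  exact hq2 ((Nat.prime_dvd_prime_iff_eq Nat.prime_two hq.out).1
    (Nat.prime_two.dvd_of_dvd_pow (hk ▸ h))).symm

theorem eq_one_of_moved_trivial {y : MulAut X} (h : ∀ x ∈ moved y, x = 1) : y = 1 :=
  MulEquiv.ext fun x => div_eq_one.1 (h _ ⟨x, rfl⟩)

theorem apply_fix_of_commute {g y : MulAut X} (h : Commute g y) {b : X} (hb : y b = b) :
    y (g b) = g b := by
  rw [← MulAut.mul_apply, ← h.eq, MulAut.mul_apply, hb]

theorem moved_conj (p y : MulAut X) :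
    Nat.card (moved (p * y * p⁻¹)) = Nat.card (moved y) := by
  refine Nat.card_congr
    { toFun := fun x => ⟨p⁻¹ x, by
        obtain ⟨u, hu⟩ := x.2
        refine ⟨p⁻¹ u, ?_⟩
        show y (p⁻¹ u) / p⁻¹ u = p⁻¹ x
        rw [← hu, show movedHom (p * y * p⁻¹) u = p (y (p⁻¹ u)) / u from rfl, map_div,
          inv_apply_apply]⟩
      invFun := fun x => ⟨p x, by
        obtain ⟨u, hu⟩ := x.2
        refine ⟨p u, ?_⟩
        show p (y (p⁻¹ (p u))) / p u = p x
        rw [inv_apply_apply, ← map_div, ← hu]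
        rfl⟩
      left_inv := fun x => Subtype.ext (apply_apply_inv p x)
      right_inv := fun x => Subtype.ext (inv_apply_apply p x) }

variable {y : MulAut X}

/-- An involution on the plane only. -/
theorem uniform_on (hc : Pairing q c) (hXq : IsPGroup q X) (hX : ¬ 2 ∣ Nat.card X) (hy : y ∈ isom c)
    (hy2 : y ^ 2 = 1) (hcard : Nat.card (moved y) ≤ q ^ 2) {g : MulAut X} (hg : g ∈ isom c)
    (hgy : Commute g y) (hgg : ∀ x ∈ moved y, g (g x) = x) :
    (∀ x ∈ moved y, g x = x) ∨ (∀ x ∈ moved y, g x = x⁻¹) := by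
  haveI : Fact (Nat.Prime 2) := ⟨Nat.prime_two⟩
  by_contra hcon
  rw [not_or] at hcon
  obtain ⟨hcon1, hcon2⟩ := hcon
  push Not at hcon1 hcon2
  obtain ⟨x₁, hx₁, hne₁⟩ := hcon1
  obtain ⟨x₂, hx₂, hne₂⟩ := hcon2
  set P := (moved y).map (movedHom g) with hP
  set F := moved y ⊓ fixedSub g with hF
  have hPy : P ≤ moved y := by
    rintro _ ⟨x, hx, rfl⟩
    exact (moved y).div_mem (map_moved hgy hx) hx
  have hPg : P ≤ moved g := by
    rintro _ ⟨x, -, rfl⟩
    exact ⟨x, rfl⟩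
  have hPinv : ∀ x ∈ P, g x = x⁻¹ := by
    rintro _ ⟨x, hx, rfl⟩
    show g (g x / x) = (g x / x)⁻¹
    rw [map_div, hgg x hx, inv_div]
  have hxF : ∀ x ∈ moved y, x * g x ∈ F := fun x hx =>
    ⟨(moved y).mul_mem hx (map_moved hgy hx), by
      show g (x * g x) = x * g x
      rw [map_mul, hgg x hx, mul_comm]⟩
  have hF1 : ∃ f ∈ F, f ≠ 1 := ⟨_, hxF x₂ hx₂, fun h => hne₂ (eq_inv_of_mul_eq_one_right h)⟩
  obtain ⟨f, hf, hf1⟩ := hF1
  set γ := g x₁ / x₁ with hγ
  have hγP : γ ∈ P := ⟨x₁, hx₁, rfl⟩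
  have hγ1 : γ ≠ 1 := fun h => hne₁ (div_eq_one.1 h)
  let Φ : P × F → moved y := fun z => ⟨(z.1 : X) * z.2, (moved y).mul_mem (hPy z.1.2) z.2.2.1⟩
  have hΦ : Function.Injective Φ := by
    rintro ⟨a₁, b₁⟩ ⟨a₂, b₂⟩ h
    have h' : (a₁ : X) * b₁ = (a₂ : X) * b₂ := congrArg Subtype.val h
    have hd : (a₁ : X) / a₂ = (b₂ : X) / b₁ := by rw [div_eq_div_iff_mul_eq_mul, h', mul_comm]
    have hone : (a₁ : X) / a₂ = 1 := by
      refine eq_one_of_inv_eq_self hX ((hPinv _ (P.div_mem a₁.2 a₂.2)).symm.trans ?_)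
      rw [hd]
      exact (fixedSub g).div_mem b₂.2.2 b₁.2.2
    refine Prod.ext (Subtype.ext (div_eq_one.1 hone)) (Subtype.ext ?_)
    rw [hd] at hone
    exact (div_eq_one.1 hone).symm
  have hqF : q ≤ Nat.card F := by
    rw [← (plane_facts hc hXq hX hy hy2 hcard hf.1 hf1).2]
    exact card_le_of_le (zpowers_le.2 hf)
  have hPq : Nat.card P ≤ q := by
    have h1 := Nat.card_le_card_of_injective Φ hΦ
    rw [Nat.card_prod] at h1
    have h2 := (Nat.mul_le_mul_left (Nat.card P) hqF).trans (h1.trans hcard)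
    rw [pow_two] at h2
    exact Nat.le_of_mul_le_mul_right h2 hq.out.pos
  have hPeq := eq_zpowers_of_card_le hXq hPq hγP hγ1
  refine hγ1 (eq_one_of_orth hc hX hy hy2 (hPy hγP) fun z hz => ?_)
  have hsq : z ^ 2 ∈ (c γ).ker := by
    have e : z ^ 2 = (z * g z) / (g z / z) := by
      rw [pow_two, div_eq_mul_inv, inv_div, div_eq_mul_inv, mul_assoc, mul_comm z (g z)⁻¹,
        mul_inv_cancel_left]
    rw [e]
    refine div_mem ?_ ?_
    · exact hc.symm (orth_fix_moved hg (hxF z hz).2 (hPg hγP))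
    · exact orth_zpowers hc (hPeq ▸ (⟨z, hz, rfl⟩ : g z / z ∈ P))
  obtain ⟨k, hk⟩ := exists_pow_eq_self_of_coprime (n := 2) (x := z)
    ((Nat.prime_two.coprime_iff_not_dvd).2 fun h => hX (h.trans (orderOf_dvd_natCard z)))
  rw [← hk]
  exact pow_mem hsq k

/-- An involution inverting the plane and moving no more is `y`. -/
theorem eq_of_inverts (hc : Pairing q c) (hXq : IsPGroup q X) (hX : ¬ 2 ∣ Nat.card X) (hy : y ∈ isom c)
    (hy2 : y ^ 2 = 1) (hcard : Nat.card (moved y) ≤ q ^ 2) (hy1 : y ≠ 1) {g : MulAut X}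
    (hgy : Commute g y) (hgcard : Nat.card (moved g) ≤ q ^ 2) (hinv : ∀ x ∈ moved y, g x = x⁻¹) :
    g = y := by
  haveI : Fact (Nat.Prime 2) := ⟨Nat.prime_two⟩
  obtain ⟨a₀, ha₀, ha₀1⟩ : ∃ x ∈ moved y, x ≠ 1 := by
    by_contra h
    push Not at h
    exact hy1 (eq_one_of_moved_trivial h)
  have hKq := (plane_facts hc hXq hX hy hy2 hcard ha₀ ha₀1).1
  have hle : moved y ≤ moved g := by
    intro x hx
    have h2 : (x ^ 2)⁻¹ ∈ moved g :=
      ⟨x, by show g x / x = _; rw [hinv x hx, div_eq_mul_inv, ← mul_inv, pow_two]⟩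
    obtain ⟨k, hk⟩ := exists_pow_eq_self_of_coprime (n := 2) (x := x)
      ((Nat.prime_two.coprime_iff_not_dvd).2 fun h => hX (h.trans (orderOf_dvd_natCard x)))
    rw [← hk]
    exact pow_mem (inv_mem_iff.1 h2) k
  have heq : moved y = moved g := eq_of_le_of_card_ge hle (hgcard.trans hKq.ge)
  refine MulEquiv.ext fun x => ?_
  obtain ⟨a, ha, b, hb, rfl⟩ := exists_decomp hX hy2 x
  rw [map_mul, map_mul, hinv a ha, moved_inverted hX hy2 ha, hb]
  congr 1
  refine div_eq_one.1 (eq_one_of_moved_fixed hX hy2 (heq ▸ ⟨b, rfl⟩ : g b / b ∈ moved y) ?_)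
  rw [map_div, apply_fix_of_commute hgy hb, hb]

/-- Automorphisms agreeing on the plane and on the fixed part. -/
theorem ext_of_decomp (hX : ¬ 2 ∣ Nat.card X) (hy2 : y ^ 2 = 1) {g h : MulAut X}
    (hK : ∀ x ∈ moved y, g x = h x) (hF : ∀ b, y b = b → g b = h b) : g = h := by
  haveI : Fact (Nat.Prime 2) := ⟨Nat.prime_two⟩
  refine MulEquiv.ext fun x => ?_
  obtain ⟨a, ha, b, hb, rfl⟩ := exists_decomp hX hy2 x
  rw [map_mul, map_mul, hK a ha, hF b hb]

/-- An exceptional element. -/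
structure Exceptional (q m : ℕ) (S : Subgroup (MulAut X)) (σ : MulAut X) : Prop where
  mem : σ ∈ S
  pow : σ ^ 2 ^ m = 1
  fix : ∀ x, (σ ^ 2 ^ (m - 1)) x = x → σ x = x
  card : Nat.card (moved (σ ^ 2 ^ (m - 1))) ≤ q ^ 2

variable {S : Subgroup (MulAut X)} {m : ℕ} {σ : MulAut X}

theorem Exceptional.sq (h : Exceptional q m S σ) (hm : 1 ≤ m) : (σ ^ 2 ^ (m - 1)) ^ 2 = 1 := by
  rw [← pow_mul, ← pow_succ, Nat.sub_add_cancel hm, h.pow]

theorem Exceptional.conj (h : Exceptional q m S σ) {p : MulAut X} (hp : p ∈ S) :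
    Exceptional q m S (p * σ * p⁻¹) where
  mem := mul_mem (mul_mem hp h.mem) (inv_mem hp)
  pow := by rw [conj_pow, h.pow, mul_one, mul_inv_cancel]
  fix := by
    intro x hx
    rw [conj_pow] at hx
    have h1 : (σ ^ 2 ^ (m - 1)) (p⁻¹ x) = p⁻¹ x :=
      p.injective (by rw [apply_apply_inv]; exact hx)
    show p (σ (p⁻¹ x)) = x
    rw [h.fix _ h1, apply_apply_inv]
  card := by rw [conj_pow, moved_conj]; exact h.card

/-- The involution centralises the abelian subgroups normal in `S`. -/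
theorem Exceptional.commute_normal (h : Exceptional q m S σ) (hXq : IsPGroup q X) (hq2 : q ≠ 2)
    (hS : IsPGroup 2 S) (hm : 2 ≤ m) (B : Subgroup S) [B.Normal]
    (hB : ∀ a ∈ B, ∀ b ∈ B, a * b = b * a) {b : S} (hb : b ∈ B) :
    Commute (σ ^ 2 ^ (m - 1)) (b : MulAut X) := by
  haveI : Fact (Nat.Prime 2) := ⟨Nat.prime_two⟩
  haveI : Finite (MulAut X) :=
    Finite.of_injective (fun f : MulAut X => (f : X → X)) DFunLike.coe_injective
  have e := commute_abelian_two (not_two_dvd hXq hq2) rfl hS S.subtype S.subtype_injective B hB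
    (s := (⟨σ, h.mem⟩ : S)) (by omega : 1 ≤ m) (Subtype.ext (by simpa using h.pow))
    (fun _ => ⟨hm, by simpa using h.fix⟩) hb
  simpa [Commute, SemiconjBy] using congrArg Subtype.val e

/-- Two exceptional involutions commute. -/
theorem Exceptional.commute {τ : MulAut X} (h : Exceptional q m S σ) (h' : Exceptional q m S τ)
    (hXq : IsPGroup q X) (hq2 : q ≠ 2) (hS : IsPGroup 2 S) (hm : 2 ≤ m) :
    Commute (σ ^ 2 ^ (m - 1)) (τ ^ 2 ^ (m - 1)) := by
  haveI : Fact (Nat.Prime 2) := ⟨Nat.prime_two⟩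
  haveI : Finite (MulAut X) :=
    Finite.of_injective (fun f : MulAut X => (f : X → X)) DFunLike.coe_injective
  obtain ⟨B, hBn, hB⟩ := Lib.Critical.exists_maximal_normal_abelian hS
  haveI := hBn
  have hBc : ∀ a ∈ B, ∀ b ∈ B, a * b = b * a := by
    intro a ha b hb
    rw [← hB] at ha
    exact (mem_centralizer_iff.1 ha b hb).symm
  have key : (⟨τ, h'.mem⟩ : S) ^ 2 ^ (m - 1) ∈ B := by
    rw [← hB, mem_centralizer_iff]
    intro b hb
    apply Subtype.ext
    simpa using (h'.commute_normal hXq hq2 hS hm B hBc hb).eq.symm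
  simpa using h.commute_normal hXq hq2 hS hm B hBc key

/-- The hypotheses on the subgroup `C` of translations and its central involutions `D`. -/
structure Layers (S C D : Subgroup (MulAut X)) : Prop where
  le : C ≤ S
  conj_mem : ∀ s ∈ S, ∀ g ∈ C, s * g * s⁻¹ ∈ C
  conj_mem_D : ∀ s ∈ S, ∀ g ∈ D, s * g * s⁻¹ ∈ D
  D_le : D ≤ C
  sq_mem : ∀ g ∈ C, g ^ 2 ∈ D
  sq_D : ∀ d ∈ D, d ^ 2 = 1
  comm : ∀ d ∈ D, ∀ g ∈ C, Commute d g

variable {C D : Subgroup (MulAut X)}

theorem Exceptional.commute_D (h : Exceptional q m S σ) (hL : Layers S C D) (hXq : IsPGroup q X)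
    (hq2 : q ≠ 2) (hS : IsPGroup 2 S) (hm : 2 ≤ m) {d : MulAut X} (hd : d ∈ D) :
    Commute (σ ^ 2 ^ (m - 1)) d := by
  have hDS : D ≤ S := hL.D_le.trans hL.le
  haveI : (D.subgroupOf S).Normal :=
    ⟨fun g hg s => mem_subgroupOf.2 (hL.conj_mem_D s s.2 g (mem_subgroupOf.1 hg))⟩
  exact h.commute_normal hXq hq2 hS hm (D.subgroupOf S)
    (fun a ha b hb => Subtype.ext
      (hL.comm _ (mem_subgroupOf.1 ha) _ (hL.D_le (mem_subgroupOf.1 hb))).eq)
    (b := ⟨d, hDS hd⟩) (mem_subgroupOf.2 hd)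

/-- For `m ≥ 3` the involution centralises `C`. -/
theorem Exceptional.commute_of_three_le (h : Exceptional q m S σ) (hL : Layers S C D)
    (hc : Pairing q c) (hXq : IsPGroup q X) (hq2 : q ≠ 2) (hS : IsPGroup 2 S) (hSc : S ≤ isom c)
    (hm : 3 ≤ m) {g : MulAut X} (hg : g ∈ C) : Commute (σ ^ 2 ^ (m - 1)) g := by
  haveI : Fact (Nat.Prime 2) := ⟨Nat.prime_two⟩
  have hX := not_two_dvd hXq hq2
  set y := σ ^ 2 ^ (m - 1) with hydef
  by_cases hy1 : y = 1
  · rw [hy1]; exact Commute.one_left _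
  have hy : y ∈ isom c := pow_mem (hSc h.mem) _
  have hy2 : y ^ 2 = 1 := h.sq (by omega)
  have hgS := hL.le hg
  have h' := h.conj hgS
  have hyy : Commute (g * y * g⁻¹) y := by
    rw [hydef, ← conj_pow]
    exact h'.commute h hXq hq2 hS (by omega)
  rcases uniform hc hXq hX hy hy2 h.card
      (g := g * y * g⁻¹) (mul_mem (mul_mem (hSc hgS) hy) (inv_mem (hSc hgS)))
      (by rw [conj_pow, hy2, mul_one, mul_inv_cancel]) hyy with hid | hinv
  · exfalso
    have hσ' : ∀ x ∈ moved y, (g * σ * g⁻¹) x = x := fun x hx => h'.fix x (by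
      rw [conj_pow]; exact hid x hx)
    set b := σ * (g * σ * g⁻¹)⁻¹ with hb
    have hbC : b ∈ C := by
      rw [show b = σ * g * σ⁻¹ * g⁻¹ by rw [hb]; group]
      exact mul_mem (hL.conj_mem σ h.mem g hg) (inv_mem hg)
    have hb4 : b ^ 4 = 1 := by
      rw [show 4 = 2 * 2 from rfl, pow_mul]
      exact hL.sq_D _ (hL.sq_mem b hbC)
    have hσy : Commute σ y := Commute.self_pow σ _
    have hbK : ∀ x ∈ moved y, b x = σ x := by
      intro x hx
      rw [hb, MulAut.mul_apply]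
      congr 1
      conv_lhs => rw [← hσ' x hx]
      exact inv_apply_apply _ _
    have hpow : ∀ (i : ℕ), ∀ x ∈ moved y, (b ^ i) x = (σ ^ i) x := by
      intro i
      induction i with
      | zero => intros; rfl
      | succ i ih =>
        intro x hx
        rw [pow_succ, MulAut.mul_apply, hbK x hx, ih _ (map_moved hσy hx), pow_succ σ,
          MulAut.mul_apply]
    refine hy1 (eq_one_of_moved_trivial fun x hx => eq_one_of_moved_fixed hX hy2 hx ?_)
    obtain ⟨j, rfl⟩ : ∃ j, m = j + 3 := ⟨m - 3, by omega⟩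
    have e : 2 ^ (j + 3 - 1) = 4 * 2 ^ j := by
      rw [show j + 3 - 1 = j + 2 by omega, pow_add]; ring
    rw [hydef, e, pow_mul]
    refine pow_apply_fix ?_ _
    rw [← hpow 4 x hx, hb4, MulAut.one_apply]
  · have heq : g * y * g⁻¹ = y := eq_of_inverts hc hXq hX hy hy2 h.card hy1 hyy
      (by rw [moved_conj]; exact h.card) hinv
    exact (mul_inv_eq_iff_eq_mul.1 heq).symm

set_option maxHeartbeats 1000000 in
/-- **The translate.** -/
theorem translate (hc : Pairing q c) (hXq : IsPGroup q X) (hq2 : q ≠ 2) (hm : 2 ≤ m)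
    (hS : IsPGroup 2 S) (hSc : S ≤ isom c) (hL : Layers S C D) (h : Exceptional q m S σ)
    (hne : σ ^ 2 ^ (m - 1) ≠ 1) {π : MulAut X} (hπ : π ∈ C)
    (hz2 : ((π * σ) ^ 2 ^ (m - 1)) ^ 2 = 1)
    (hzcard : Nat.card (moved ((π * σ) ^ 2 ^ (m - 1))) ≤ q ^ 2)
    (hzexc : (π * σ) ^ 2 ^ (m - 1) ≠ 1 → Exceptional q m S (π * σ)) :
    ((π * σ) ^ 2 ^ (m - 1) * (σ ^ 2 ^ (m - 1))⁻¹) ^ 2 = 1 ∧
      (∀ g ∈ C, Commute ((π * σ) ^ 2 ^ (m - 1) * (σ ^ 2 ^ (m - 1))⁻¹) g) ∧
      (π ∈ D → (π * σ) ^ 2 ^ (m - 1) = σ ^ 2 ^ (m - 1)) := by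
  haveI : Fact (Nat.Prime 2) := ⟨Nat.prime_two⟩
  have hX := not_two_dvd hXq hq2
  set y := σ ^ 2 ^ (m - 1) with hydef
  set z := (π * σ) ^ 2 ^ (m - 1) with hzdef
  have hy : y ∈ isom c := pow_mem (hSc h.mem) _
  have hy2 : y ^ 2 = 1 := h.sq (by omega)
  have hyinv : y⁻¹ = y := (eq_inv_of_mul_eq_one_left (by rw [← pow_two]; exact hy2)).symm
  have hπS : π ∈ S := hL.le hπ
  have hz : z ∈ isom c := pow_mem (mul_mem (hSc hπS) (hSc h.mem)) _
  have hyz : Commute z y := by
    by_cases hz1 : z = 1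
    · rw [hz1]; exact Commute.one_left _
    · exact (hzexc hz1).commute h hXq hq2 hS hm
  have hσy : Commute σ y := Commute.self_pow σ _
  have hN2 : (z * y⁻¹) ^ 2 = 1 := by
    rw [hyinv, hyz.mul_pow, hz2, hy2, one_mul]
  -- the case of an element of `D`
  have hA : π ∈ D → z = y := by
    intro hπD
    have hπ2 := hL.sq_D π hπD
    have hπy : Commute π y := (h.commute_D hL hXq hq2 hS hm hπD).symm
    have hcom : Commute π σ := by
      refine ext_of_decomp hX hy2 (g := π * σ) (h := σ * π) (fun x hx => ?_) (fun b hb => ?_)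
      · rw [MulAut.mul_apply, MulAut.mul_apply]
        rcases uniform hc hXq hX hy hy2 h.card (hSc hπS) hπ2 hπy with hid | hinv
        · rw [hid x hx, hid _ (map_moved hσy hx)]
        · rw [hinv x hx, hinv _ (map_moved hσy hx), map_inv]
      · rw [MulAut.mul_apply, MulAut.mul_apply, h.fix b hb, h.fix _ (apply_fix_of_commute hπy hb)]
    rw [hzdef, hcom.mul_pow, ← hydef,
      show 2 ^ (m - 1) = 2 * 2 ^ (m - 2) by rw [← pow_succ']; congr 1; omega, pow_mul, hπ2, one_pow,
      one_mul]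
  refine ⟨hN2, ?_, hA⟩
  rcases (show 3 ≤ m ∨ m = 2 by omega) with h3 | rfl
  · intro g hg
    refine Commute.mul_left ?_ (h.commute_of_three_le hL hc hXq hq2 hS hSc h3 hg).inv_left
    by_cases hz1 : z = 1
    · rw [hz1]; exact Commute.one_left _
    · exact (hzexc hz1).commute_of_three_le hL hc hXq hq2 hS hSc h3 hg
  -- `σ` has order four
  have hyσ : y = σ * σ := by rw [hydef]; norm_num [pow_two]
  have hzπ : z = (π * σ) * (π * σ) := by rw [hzdef]; norm_num [pow_two]
  set d := π ^ 2 with hddef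
  have hdD : d ∈ D := hL.sq_mem π hπ
  have hdS : d ∈ S := hL.le (hL.D_le hdD)
  have hdy : Commute d y := (h.commute_D hL hXq hq2 hS hm hdD).symm
  have hd2 := hL.sq_D d hdD
  have hdapp : ∀ x, π (π x) = d x := fun x => by rw [hddef, pow_two, MulAut.mul_apply]
  have hduni := uniform hc hXq hX hy hy2 h.card (hSc hdS) hd2 hdy
  have hπy : Commute π y := by
    have h' := h.conj hπS
    have hyy : Commute (π * y * π⁻¹) y := by
      rw [hydef, ← conj_pow]
      exact h'.commute h hXq hq2 hS hm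
    rcases uniform hc hXq hX hy hy2 h.card
        (g := π * y * π⁻¹) (mul_mem (mul_mem (hSc hπS) hy) (inv_mem (hSc hπS)))
        (by rw [conj_pow, hy2, mul_one, mul_inv_cancel]) hyy with hid | hinv
    · exfalso
      refine hne (eq_one_of_moved_trivial fun v hv => ?_)
      -- the moved part of the conjugate is fixed by `y`
      have hfix' : ∀ w ∈ moved (π * y * π⁻¹), y w = w := by
        rintro _ ⟨u, rfl⟩
        show y ((π * y * π⁻¹) u / u) = (π * y * π⁻¹) u / u
        obtain ⟨a, ha, b, hb, rfl⟩ := exists_decomp hX hy2 u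
        rw [map_mul, hid a ha, mul_div_mul_left_eq_div, map_div, apply_fix_of_commute hyy hb, hb]
      have hstep : ∀ w ∈ moved y, z w = d (σ w) := by
        intro w hw
        obtain ⟨u, hu⟩ := map_moved hσy hw
        have hmem : π (σ w) ∈ moved (π * y * π⁻¹) := by
          refine ⟨π u, ?_⟩
          rw [← hu]
          show (π * y * π⁻¹) (π u) / π u = π (y u / u)
          rw [MulAut.mul_apply, MulAut.mul_apply, inv_apply_apply, map_div]
        rw [hzπ, MulAut.mul_apply, MulAut.mul_apply, MulAut.mul_apply, h.fix _ (hfix' _ hmem), hdapp]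
      have hσv := map_moved hσy hv
      have hdK : ∀ w ∈ moved y, d w ∈ moved y := fun w hw => map_moved hdy hw
      have h1 : d (σ (d (σ v))) = v := by
        rw [← hstep _ (hdK _ hσv), ← hstep v hv, ← MulAut.mul_apply, ← pow_two, hz2, MulAut.one_apply]
      have h2 : σ (σ v) = v := by
        rcases hduni with hdid | hdinv
        · rwa [hdid _ hσv, hdid _ (map_moved hσy hσv)] at h1
        · rwa [hdinv _ hσv, map_inv, hdinv _ (inv_mem (map_moved hσy hσv)), inv_inv] at h1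
      rw [← MulAut.mul_apply, ← hyσ] at h2
      exact eq_one_of_moved_fixed hX hy2 hv h2
    · have heq : π * y * π⁻¹ = y := eq_of_inverts hc hXq hX hy hy2 h.card hne hyy
        (by rw [moved_conj]; exact h.card) hinv
      exact mul_inv_eq_iff_eq_mul.1 heq
  have hF : ∀ b, y b = b → z b = d b := by
    intro b hb
    rw [hzπ, MulAut.mul_apply, MulAut.mul_apply, MulAut.mul_apply, h.fix b hb,
      h.fix _ (apply_fix_of_commute hπy hb), hdapp]
  have hK : (∀ x ∈ moved y, (z * y⁻¹) x = d x) ∨ (∀ x ∈ moved y, z x = d x) := by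
    rcases hduni with hd | hd <;> rcases uniform hc hXq hX hy hy2 h.card hz hz2 hyz with hu | hu
    · right; intro x hx; rw [hu x hx, hd x hx]
    · left
      intro x hx
      rw [hyinv, MulAut.mul_apply, moved_inverted hX hy2 hx, map_inv, hu x hx, inv_inv, hd x hx]
    · left
      intro x hx
      rw [hyinv, MulAut.mul_apply, moved_inverted hX hy2 hx, map_inv, hu x hx, hd x hx]
    · right; intro x hx; rw [hu x hx, hd x hx]
  rcases hK with hK | hK
  · have hN : z * y⁻¹ = d := ext_of_decomp hX hy2 hK fun b hb => by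
      rw [hyinv, MulAut.mul_apply, hb, hF b hb]
    intro g hg
    rw [hN]
    exact hL.comm d hdD g hg
  · have hzd : z = d := ext_of_decomp hX hy2 hK hF
    rcases hduni with hdid | hdinv
    · exfalso
      have hπK : ∀ x ∈ moved y, π (π x) = x := fun x hx => by rw [hdapp, hdid x hx]
      refine hne (eq_one_of_moved_trivial fun x hx => eq_one_of_inv_eq_self hX ?_)
      have hσx := map_moved hσy hx
      have h1 : z x = y x := by
        rcases uniform_on hc hXq hX hy hy2 h.card (hSc hπS) hπy hπK with hp | hp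
        · rw [hzπ, hyσ, MulAut.mul_apply, MulAut.mul_apply, MulAut.mul_apply, MulAut.mul_apply,
            hp _ hσx, hp _ (map_moved hσy hσx)]
        · rw [hzπ, hyσ, MulAut.mul_apply, MulAut.mul_apply, MulAut.mul_apply, MulAut.mul_apply,
            hp _ hσx, map_inv, map_inv, hp _ (map_moved hσy hσx), inv_inv]
      rw [← moved_inverted hX hy2 hx, ← h1, hzd, hdid x hx]
    · have hdy' : d = y := eq_of_inverts hc hXq hX hy hy2 h.card hne hdy (hzd ▸ hzcard) hdinv
      intro g _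
      rw [hzd, hdy', mul_inv_cancel]
      exact Commute.one_left g

end Cfsg.Agent.Lib.ExpTwoLength71
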