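import Cfsg.Agent.Lib.GrossTwo.Group
import Cfsg.Agent.Lib.ExpTwoLength71.Plane
import Cfsg.Agent.Lib.ExpTwoLength71.Basic

/-!
# The `2 ^ e`-th powers of translates

`G` is soluble with `O_2 = 1` and acts faithfully in characteristic two without free cyclic summands
for its `2`-elements of order `2 ^ (e + 1)`. Translating a `2`-element by a small layer of the normal
closure of the `2 ^ e`-th powers changes its `2 ^ e`-th power by a central involution only.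
-/

set_option autoImplicit false
set_option linter.unusedSectionVars false

namespace Cfsg.Agent.Lib.ExpTwoLength71

open Module Subgroup Cfsg Cfsg.Agent.Lib.HallHigmanB Cfsg.Agent.Lib.HallHigmanFermat
open Cfsg.Agent.Lib.GrossTwo
open scoped commutatorElement

variable {K V G : Type*} [Field K] [IsAlgClosed K] [AddCommGroup V] [Module K V]
  [FiniteDimensional K V] [Group G] [Finite G]

/-- No `2`-element of `G` has a free cyclic module of order `2 ^ (e + 1)`. -/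
def NoFree (ρ : G →* Module.End K V) (e : ℕ) : Prop :=
  ∀ (t : G) (k : ℕ), t ^ 2 ^ k = 1 →
    t ^ 2 ^ (e + 1) = 1 ∧ (ρ t - 1) ^ (2 ^ (e + 1) - 1) = 0

/-- The normal subgroup generated by the `2 ^ e`-th powers of `2`-elements. -/
def powClosure (e : ℕ) (G : Type*) [Group G] : Subgroup G :=
  normalClosure {x | ∃ (t : G) (k : ℕ), t ^ 2 ^ k = 1 ∧ t ^ 2 ^ e = x}

instance powClosure_normal (e : ℕ) (G : Type*) [Group G] : (powClosure e G).Normal :=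
  normalClosure_normal

theorem pow_mem_powClosure {e : ℕ} {t : G} {k : ℕ} (hk : t ^ 2 ^ k = 1) :
    t ^ 2 ^ e ∈ powClosure e G :=
  subset_normalClosure ⟨t, k, hk, rfl⟩

variable [CharP K 2] {ρ : G →* Module.End K V} {e : ℕ}

theorem powClosure_le_pPrimePCore [Group.IsSolvable G] (hρ : Function.Injective ρ)
    (hO : pCore 2 G = ⊥) (hnil : NoFree ρ e) : powClosure e G ≤ pPrimePCore 2 G := by
  haveI : (pPrimePCore 2 G).Normal := PSolvable.pPrimePCore_normal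
  refine normalClosure_le_normal ?_
  rintro _ ⟨t, k, hk, rfl⟩
  exact GrossTwo.pow_mem_pPrimePCore hρ hO (hnil t k hk).1 (hnil t k hk).2

variable {q : ℕ} [hq : Fact q.Prime] {Q : Subgroup G} {W : Submodule K V}

theorem powClosure_le_classStab (hQn : Q.Normal) (hW : IrredSub ρ Q W) (hnil : NoFree ρ e) :
    powClosure e G ≤ classStab ρ hW := by
  haveI : Fact (Nat.Prime 2) := ⟨Nat.prime_two⟩
  refine (closure_le _).2 fun x hx => ?_
  obtain ⟨_, ⟨t, k, hk, rfl⟩, hconj⟩ := Group.mem_conjugatesOfSet_iff.1 hx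
  obtain ⟨g, rfl⟩ := isConj_iff.1 hconj
  rw [← conj_pow]
  obtain ⟨h1, h2⟩ := hnil (g * t * g⁻¹) k (by rw [conj_pow, hk, mul_one, mul_inv_cancel])
  obtain ⟨a, U, hae, -, -, hs, -, -⟩ := orbit hW
    (by rw [normalizer_eq_top_iff.2 hQn]; exact mem_top _) h1 h2
  have e1 : (g * t * g⁻¹) ^ 2 ^ e = ((g * t * g⁻¹) ^ 2 ^ a) ^ 2 ^ (e - a) := by
    rw [← pow_mul, ← pow_add, Nat.add_sub_cancel' (by omega : a ≤ e)]
  rw [e1]
  exact pow_mem hs _

/-- The kind of a `2`-element on a component. -/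
theorem component_kind (hq2 : q ≠ 2) (hQq : IsPGroup q Q) (hQn : Q.Normal) (hW : IrredSub ρ Q W)
    (hcls : ∀ a ∈ Q, ∀ b ∈ Q, ∀ c ∈ Q, ⁅a, b⁆ * c = c * ⁅a, b⁆) {t : G} (hto : t ^ 2 ^ (e + 1) = 1)
    (htn : (ρ t - 1) ^ (2 ^ (e + 1) - 1) = 0) (hy : t ^ 2 ^ e ∈ classStab ρ hW) :
    letI := classCommGroup hW hcls
    classAction hW ⟨_, hy⟩ = 1 ∨
      ∃ (a m : ℕ) (hs : t ^ 2 ^ a ∈ classStab ρ hW), a + m = e + 1 ∧ 2 ≤ m ∧ q + 1 = 2 ^ m ∧
        classAction hW ⟨_, hy⟩ = classAction hW ⟨_, hs⟩ ^ 2 ^ (m - 1) ∧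
        classAction hW ⟨_, hs⟩ ^ 2 ^ m = 1 ∧
        (∀ x, (classAction hW ⟨_, hs⟩ ^ 2 ^ (m - 1)) x = x → classAction hW ⟨_, hs⟩ x = x) ∧
        Nat.card (moved (X := Q ⧸ scalarSub hW.2.1) (classAction hW ⟨_, hs⟩ ^ 2 ^ (m - 1))) ≤ q ^ 2 := by
  haveI : Fact (Nat.Prime 2) := ⟨Nat.prime_two⟩
  letI := classCommGroup hW hcls
  rw [or_iff_not_imp_left]
  intro hne
  obtain ⟨a, U, hae, hU, hWU, hs, hsU, hnil⟩ := orbit hW
    (by rw [normalizer_eq_top_iff.2 hQn]; exact mem_top _) hto htn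
  have hsm : (t ^ 2 ^ a) ^ 2 ^ (e + 1 - a) = 1 := by
    rw [← pow_mul, ← pow_add, Nat.add_sub_cancel' hae.le, hto]
  have hyy : classAction hW ⟨_, hy⟩ = classAction hW ⟨_, hs⟩ ^ 2 ^ (e + 1 - a - 1) := by
    rw [← map_pow]
    congr 1
    refine Subtype.ext ?_
    show t ^ 2 ^ e = (t ^ 2 ^ a) ^ 2 ^ (e + 1 - a - 1)
    rw [← pow_mul, ← pow_add, show a + (e + 1 - a - 1) = e by omega]
  have hbot : moved (X := Q ⧸ scalarSub hW.2.1)
      (classAction hW ⟨_, hs⟩ ^ 2 ^ (e + 1 - a - 1)) ≠ ⊥ := by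
    intro h
    refine hne ?_
    rw [hyy]
    exact eq_one_of_moved_trivial fun x hx => mem_bot.1 (h ▸ hx)
  obtain ⟨hfix, b, hb, hcard⟩ := component hq2 hQq hW hcls hs hU hWU hsU (by omega) hsm hnil hbot
  have hb0 : b ≠ 0 := fun h0 => hbot (eq_bot_of_card_le _ (by simpa [h0] using hcard))
  have hm2 : 2 ≤ e + 1 - a := by
    by_contra h
    rw [show e + 1 - a = 1 by omega] at hb
    have := Nat.one_lt_pow hb0 (Fact.out : q.Prime).one_lt
    omega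
  have hb1 : b = 1 := Cfsg.Agent.Lib.Elem69.Half.pow_add_one_eq_two_pow (Nat.pos_of_ne_zero hb0)
    Fact.out hq2 hm2 (by have := Nat.one_le_two_pow (n := e + 1 - a); omega)
  subst hb1
  rw [pow_one] at hb hcard
  exact ⟨a, e + 1 - a, hs, by omega, hm2, by have := Nat.one_le_two_pow (n := e + 1 - a); omega,
    hyy, by rw [← map_pow, show (⟨_, hs⟩ : classStab ρ hW) ^ 2 ^ (e + 1 - a) = 1 from
      Subtype.ext (by simpa using hsm), map_one], hfix, hcard⟩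

/-- `(c * s) ^ i` differs from `s ^ i` by an element of `C`. -/
theorem mul_pow_mul_inv_mem {C : Subgroup G} {s c : G} (hs : ∀ g ∈ C, s * g * s⁻¹ ∈ C) (hc : c ∈ C) :
    ∀ i : ℕ, (c * s) ^ i * (s ^ i)⁻¹ ∈ C := by
  intro i
  induction i with
  | zero => simpa using one_mem C
  | succ i ih =>
    have hsi : ∀ j : ℕ, s ^ j * c * (s ^ j)⁻¹ ∈ C := by
      intro j
      induction j with
      | zero => simpa using hc
      | succ j ihj =>
        rw [pow_succ', show s * s ^ j * c * (s * s ^ j)⁻¹ = s * (s ^ j * c * (s ^ j)⁻¹) * s⁻¹ by group]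
        exact hs _ ihj
    rw [show (c * s) ^ (i + 1) * (s ^ (i + 1))⁻¹ =
      (c * s) ^ i * (s ^ i)⁻¹ * (s ^ i * c * (s ^ i)⁻¹) by rw [pow_succ, pow_succ]; group]
    exact mul_mem ih (hsi i)

/-- The hypotheses on the `2`-group `T` and its subgroups `C`, `D`. -/
structure Small (T C D : Subgroup G) : Prop where
  isTwo : IsPGroup 2 T
  le : C ≤ T
  conj_mem : ∀ s ∈ T, ∀ g ∈ C, s * g * s⁻¹ ∈ C
  sq_mem : ∀ g ∈ C, g ^ 2 ∈ D
  mem_D : ∀ d, d ∈ D ↔ d ∈ C ∧ d ^ 2 = 1 ∧ ∀ g ∈ C, Commute d g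

variable {T C D : Subgroup G}

theorem Small.conj_mem_D (h : Small T C D) {s g : G} (hs : s ∈ T) (hg : g ∈ D) :
    s * g * s⁻¹ ∈ D := by
  obtain ⟨hgC, hg2, hgc⟩ := (h.mem_D g).1 hg
  refine (h.mem_D _).2 ⟨h.conj_mem s hs g hgC, by rw [conj_pow, hg2, mul_one, mul_inv_cancel],
    fun x hx => ?_⟩
  have h1 := hgc _ (h.conj_mem s⁻¹ (inv_mem hs) x hx)
  rw [inv_inv] at h1
  have h2 := h1.map (MulAut.conj s).toMonoidHom
  simpa [mul_assoc] using h2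

theorem Small.commutator_mem (h : Small T C D) {a b : G} (ha : a ∈ C) (hb : b ∈ C) : ⁅a, b⁆ ∈ D := by
  rw [show ⁅a, b⁆ = a ^ 2 * (a⁻¹ * b) ^ 2 * (b ^ 2)⁻¹ by
    rw [commutatorElement_def, pow_two, pow_two, pow_two]; group]
  exact mul_mem (mul_mem (h.sq_mem a ha) (h.sq_mem _ (mul_mem (inv_mem ha) hb)))
    (inv_mem (h.sq_mem b hb))

set_option maxHeartbeats 1000000 in
/-- On one component the translate gives a central involution. -/
theorem component_translate (hq2 : q ≠ 2) (hQq : IsPGroup q Q) (hQn : Q.Normal) (hW : IrredSub ρ Q W)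
    (hcls : ∀ a ∈ Q, ∀ b ∈ Q, ∀ c ∈ Q, ⁅a, b⁆ * c = c * ⁅a, b⁆) (hnil : NoFree ρ e)
    (hT : Small T C D) (hC : C ≤ classStab ρ hW) {s c : G} (hs : s ∈ T) (hc : c ∈ C) :
    ∀ N : classStab ρ hW, (N : G) = (c * s) ^ 2 ^ e * (s ^ 2 ^ e)⁻¹ →
    classAction hW N ^ 2 = 1 ∧
      (∀ g : classStab ρ hW, (g : G) ∈ C → Commute (classAction hW N) (classAction hW g)) ∧
      (c ∈ D → classAction hW N = 1) := by
  classical
  haveI : Fact (Nat.Prime 2) := ⟨Nat.prime_two⟩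
  letI := classCommGroup hW hcls
  obtain ⟨pr, hpr, hrange⟩ := exists_pairing hq2 hQq hW hcls
  set St := classStab ρ hW with hSt
  set φ := classAction hW with hφ
  set SS := (T.subgroupOf St).map φ with hSS
  set CC := (C.subgroupOf St).map φ with hCC
  set DD := (D.subgroupOf St).map φ with hDD
  intro N hN
  have hS : IsPGroup 2 SS := (hT.isTwo.comap_of_injective St.subtype St.subtype_injective).map φ
  have hSc : SS ≤ isom pr := (map_le_range _ _).trans hrange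
  have hDC : D ≤ C := fun d hd => ((hT.mem_D d).1 hd).1
  have hL : Layers SS CC DD := by
    refine ⟨map_mono fun x hx => hT.le hx, ?_, ?_, map_mono fun x hx => hDC hx, ?_, ?_, ?_⟩
    · rintro _ ⟨x, hx, rfl⟩ _ ⟨y, hy, rfl⟩
      exact ⟨x * y * x⁻¹, hT.conj_mem _ hx _ hy, by simp⟩
    · rintro _ ⟨x, hx, rfl⟩ _ ⟨y, hy, rfl⟩
      exact ⟨x * y * x⁻¹, hT.conj_mem_D hx hy, by simp⟩
    · rintro _ ⟨y, hy, rfl⟩
      exact ⟨y ^ 2, hT.sq_mem _ hy, map_pow φ y 2⟩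
    · rintro _ ⟨y, hy, rfl⟩
      rw [← map_pow, show y ^ 2 = 1 from Subtype.ext ((hT.mem_D _).1 hy).2.1, map_one]
    · rintro _ ⟨x, hx, rfl⟩ _ ⟨y, hy, rfl⟩
      exact (show Commute x y from Subtype.ext (((hT.mem_D _).1 hx).2.2 _ hy).eq).map φ
  obtain ⟨k₁, hk₁⟩ := hT.isTwo ⟨s, hs⟩
  obtain ⟨k₂, hk₂⟩ := hT.isTwo ⟨c * s, mul_mem (hT.le hc) hs⟩
  obtain ⟨hso, hsn⟩ := hnil s k₁ (congrArg Subtype.val hk₁ :)
  obtain ⟨hto, htn⟩ := hnil (c * s) k₂ (congrArg Subtype.val hk₂ :)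
  have hK := powClosure_le_classStab hQn hW hnil
  set xs : St := ⟨s ^ 2 ^ e, hK (pow_mem_powClosure (k := k₁) (congrArg Subtype.val hk₁ :))⟩ with hxs
  set xt : St := ⟨(c * s) ^ 2 ^ e,
    hK (pow_mem_powClosure (k := k₂) (congrArg Subtype.val hk₂ :))⟩ with hxt
  have hNe : φ N = φ xt * (φ xs)⁻¹ := by
    rw [← map_inv, ← map_mul]
    exact congrArg φ (Subtype.ext hN)
  have hks := component_kind hq2 hQq hQn hW hcls hso hsn xs.2
  have hkt := component_kind hq2 hQq hQn hW hcls hto htn xt.2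
  -- one orientation
  have main : ∀ (u v : G) (hu : u ∈ T) (xu xv : St) (π : G), π ∈ C → v = π * u →
      (xu : G) = u ^ 2 ^ e → (xv : G) = v ^ 2 ^ e →
      φ xu ≠ 1 →
      (φ xu = 1 ∨ ∃ (a m : ℕ) (h : u ^ 2 ^ a ∈ St), a + m = e + 1 ∧ 2 ≤ m ∧ q + 1 = 2 ^ m ∧
        φ xu = φ ⟨_, h⟩ ^ 2 ^ (m - 1) ∧ φ ⟨_, h⟩ ^ 2 ^ m = 1 ∧
        (∀ x, (φ ⟨_, h⟩ ^ 2 ^ (m - 1)) x = x → φ ⟨_, h⟩ x = x) ∧
        Nat.card (moved (X := Q ⧸ scalarSub hW.2.1) (φ ⟨_, h⟩ ^ 2 ^ (m - 1))) ≤ q ^ 2) →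
      (φ xv = 1 ∨ ∃ (a m : ℕ) (h : v ^ 2 ^ a ∈ St), a + m = e + 1 ∧ 2 ≤ m ∧ q + 1 = 2 ^ m ∧
        φ xv = φ ⟨_, h⟩ ^ 2 ^ (m - 1) ∧ φ ⟨_, h⟩ ^ 2 ^ m = 1 ∧
        (∀ x, (φ ⟨_, h⟩ ^ 2 ^ (m - 1)) x = x → φ ⟨_, h⟩ x = x) ∧
        Nat.card (moved (X := Q ⧸ scalarSub hW.2.1) (φ ⟨_, h⟩ ^ 2 ^ (m - 1))) ≤ q ^ 2) →
      (φ xv * (φ xu)⁻¹) ^ 2 = 1 ∧ (∀ g ∈ CC, Commute (φ xv * (φ xu)⁻¹) g) ∧
        (π ∈ D → φ xv * (φ xu)⁻¹ = 1) := by
    intro u v hu xu xv π hπ hv _ hxv hne hku hkv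
    obtain ⟨a, m, hua, ham, hm, hqm, hxue, hum, hufix, hucard⟩ := hku.resolve_left hne
    have hve : ∀ i, v ^ i * (u ^ i)⁻¹ ∈ C := fun i => by
      rw [hv]; exact mul_pow_mul_inv_mem (hT.conj_mem u hu) hπ i
    have hva : v ^ 2 ^ a ∈ St := by
      rw [← inv_mul_cancel_right (v ^ 2 ^ a) (u ^ 2 ^ a)]
      exact mul_mem (hC (hve _)) hua
    set σ := φ ⟨_, hua⟩ with hσ
    set p : St := ⟨v ^ 2 ^ a * (u ^ 2 ^ a)⁻¹, hC (hve _)⟩ with hp
    have hpC : φ p ∈ CC := ⟨p, hve _, rfl⟩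
    have hprod : φ p * σ = φ ⟨_, hva⟩ := by
      rw [hσ, ← map_mul]
      congr 1
      exact Subtype.ext (inv_mul_cancel_right _ _)
    have hvT : v ∈ T := hv ▸ mul_mem (hT.le hπ) hu
    have hE : Exceptional q m SS σ := ⟨⟨_, pow_mem hu _, rfl⟩, hum, hufix, hucard⟩
    have hzeq : φ xv = (φ p * σ) ^ 2 ^ (m - 1) := by
      rw [hprod, ← map_pow]
      congr 1
      refine Subtype.ext ?_
      rw [hxv, SubmonoidClass.coe_pow, ← pow_mul, ← pow_add, show a + (m - 1) = e by omega]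
    have hzexc : φ xv ≠ 1 → Exceptional q m SS (φ p * σ) := by
      intro hne'
      obtain ⟨a', m', hva', ham', hm', hqm', -, hvm, hvfix, hvcard⟩ := hkv.resolve_left hne'
      obtain rfl : m' = m := Nat.pow_right_injective le_rfl (hqm'.symm.trans hqm)
      obtain rfl : a' = a := by omega
      rw [hprod]
      exact ⟨⟨_, pow_mem hvT _, rfl⟩, hvm, hvfix, hvcard⟩
    have hz : (φ xv) ^ 2 = 1 ∧ Nat.card (moved (X := Q ⧸ scalarSub hW.2.1) (φ xv)) ≤ q ^ 2 := by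
      by_cases h1 : φ xv = 1
      · rw [h1]
        refine ⟨one_pow 2, ?_⟩
        have hb : moved (X := Q ⧸ scalarSub hW.2.1) (1 : MulAut (Q ⧸ scalarSub hW.2.1)) = ⊥ := by
          rw [eq_bot_iff]
          rintro _ ⟨x, rfl⟩
          exact mem_bot.2 (div_self' x)
        rw [hb, card_bot]
        exact Nat.one_le_pow _ _ hq.out.pos
      · rw [hzeq]
        exact ⟨(hzexc h1).sq (by omega), (hzexc h1).card⟩
    obtain ⟨r1, r2, r3⟩ := translate hpr (hQq.to_quotient _) hq2 hm hS hSc hL hE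
      (by rw [← hxue]; exact hne) hpC (by rw [← hzeq]; exact hz.1) (by rw [← hzeq]; exact hz.2)
      (by rw [← hzeq]; exact hzexc)
    rw [← hzeq, ← hxue] at r1 r2 r3
    refine ⟨r1, r2, fun hπD => ?_⟩
    rw [r3 ⟨p, ?_, rfl⟩, mul_inv_cancel]
    show v ^ 2 ^ a * (u ^ 2 ^ a)⁻¹ ∈ D
    rw [hv]
    exact mul_pow_mul_inv_mem (fun g hg => hT.conj_mem_D hu hg) hπD _
  suffices hall : (φ xt * (φ xs)⁻¹) ^ 2 = 1 ∧ (∀ g ∈ CC, Commute (φ xt * (φ xs)⁻¹) g) ∧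
      (c ∈ D → φ xt * (φ xs)⁻¹ = 1) by
    rw [hNe]
    exact ⟨hall.1, fun g hg => hall.2.1 _ ⟨g, hg, rfl⟩, hall.2.2⟩
  by_cases hs1 : φ xs = 1
  · by_cases ht1 : φ xt = 1
    · rw [hs1, ht1]
      simp
    · obtain ⟨r1, r2, r3⟩ := main (c * s) s (mul_mem (hT.le hc) hs) xt xs c⁻¹ (inv_mem hc)
        (inv_mul_cancel_left c s).symm rfl rfl ht1 hkt hks
      have e1 : φ xt * (φ xs)⁻¹ = (φ xs * (φ xt)⁻¹)⁻¹ := by rw [mul_inv_rev, inv_inv]
      rw [e1]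
      exact ⟨by rw [inv_pow, r1, inv_one], fun g hg => (r2 g hg).inv_left,
        fun h => by rw [r3 (inv_mem h), inv_one]⟩
  · exact main s (c * s) hs xs xt c hc rfl rfl rfl hs1 hks hkt

/-- **Translates differ by central involutions, and by nothing for central involutions.** -/
theorem translate_mem [Group.IsSolvable G] (hρ : Function.Injective ρ) (hO : pCore 2 G = ⊥)
    (hnil : NoFree ρ e) (hT : Small T C D) (hCK : C ≤ powClosure e G) {s c : G} (hs : s ∈ T)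
    (hc : c ∈ C) :
    (c * s) ^ 2 ^ e * (s ^ 2 ^ e)⁻¹ ∈ D ∧ (c ∈ D → (c * s) ^ 2 ^ e = s ^ 2 ^ e) := by
  haveI : Fact (Nat.Prime 2) := ⟨Nat.prime_two⟩
  set N := (c * s) ^ 2 ^ e * (s ^ 2 ^ e)⁻¹ with hNdef
  have hNC : N ∈ C := mul_pow_mul_inv_mem (hT.conj_mem s hs) hc _
  have hN2 : N ^ 2 = 1 := by
    by_contra hne
    obtain ⟨r, hr, Q, W, hW, hr2, hQr, hQn, hcls, hmove⟩ := exists_component (ρ := ρ) hρ hO
      ((hT.mem_D _).1 (hT.sq_mem N hNC)).2.1 hne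
    letI := classCommGroup hW hcls
    have hC' := hCK.trans (powClosure_le_classStab hQn hW hnil)
    obtain ⟨h1, -, -⟩ := component_translate hr2 hQr hQn hW hcls hnil hT hC' hs hc
      ⟨N, hC' hNC⟩ rfl
    refine hmove (pow_mem (hC' hNC) 2) ?_
    rw [← h1, ← map_pow]
    rfl
  refine ⟨(hT.mem_D N).2 ⟨hNC, hN2, fun g hg => ?_⟩, fun hcD => ?_⟩
  · rw [← commutatorElement_eq_one_iff_commute]
    by_contra hne
    obtain ⟨r, hr, Q, W, hW, hr2, hQr, hQn, hcls, hmove⟩ := exists_component (ρ := ρ) hρ hO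
      ((hT.mem_D _).1 (hT.commutator_mem hNC hg)).2.1 hne
    letI := classCommGroup hW hcls
    have hC' := hCK.trans (powClosure_le_classStab hQn hW hnil)
    obtain ⟨-, h2, -⟩ := component_translate hr2 hQr hQn hW hcls hnil hT hC' hs hc
      ⟨N, hC' hNC⟩ rfl
    refine hmove (hC' ((hT.mem_D _).1 (hT.commutator_mem hNC hg)).1) ?_
    rw [show (⟨⁅N, g⁆, _⟩ : classStab ρ hW) = ⁅(⟨N, hC' hNC⟩ : classStab ρ hW), ⟨g, hC' hg⟩⁆ from
      Subtype.ext (map_commutatorElement (classStab ρ hW).subtype ⟨N, hC' hNC⟩ ⟨g, hC' hg⟩).symm, map_commutatorElement,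
      commutatorElement_eq_one_iff_commute]
    exact h2 ⟨g, hC' hg⟩ hg
  · rw [← mul_inv_eq_one, ← hNdef]
    by_contra hne
    obtain ⟨r, hr, Q, W, hW, hr2, hQr, hQn, hcls, hmove⟩ := exists_component (ρ := ρ) hρ hO hN2 hne
    letI := classCommGroup hW hcls
    have hC' := hCK.trans (powClosure_le_classStab hQn hW hnil)
    obtain ⟨-, -, h3⟩ := component_translate hr2 hQr hQn hW hcls hnil hT hC' hs hc
      ⟨N, hC' hNC⟩ rfl
    exact hmove (hC' hNC) (h3 hcD)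

end Cfsg.Agent.Lib.ExpTwoLength71
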