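import Cfsg.Agent.Lib.GrossTwo.Exponent
import Cfsg.Agent.Lib.ExpTwoLength71.Lower

/-!
# The `2`-length is at most the exponent of a Sylow `2`-subgroup
-/

set_option autoImplicit false
set_option linter.style.haveILetI false

namespace Cfsg.Agent.Lib.ExpTwoLength71

open Subgroup Cfsg Cfsg.Agent.Lib.HallHigmanB Cfsg.Agent.Lib.HallHigmanFermat
open Cfsg.Agent.Lib.PSolvable
open scoped IsMulCommutative TensorProduct

universe u

theorem lengthBound_zero : LengthBound.{u} 0 := by
  intro G _ _ _ h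
  haveI : Fact (Nat.Prime 2) := ⟨Nat.prime_two⟩
  refine pLengthLE_zero_of_coprime ?_
  rw [Nat.coprime_comm, Nat.prime_two.coprime_iff_not_dvd]
  intro h2
  obtain ⟨x, hx⟩ := exists_prime_orderOf_dvd_card' 2 h2
  have h1 := h x 1 (by rw [pow_one, ← hx, pow_orderOf_eq_one])
  rw [pow_zero, pow_one] at h1
  rw [h1, orderOf_one] at hx
  omega

theorem lengthBound_one : LengthBound.{u} 1 := by
  intro G _ _ _ h
  refine GrossTwo.pLengthLE_one fun P x hx => ?_
  obtain ⟨k, hk⟩ := P.isPGroup' ⟨x, hx⟩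
  have := h x k (congrArg Subtype.val hk :)
  rwa [pow_one] at this

theorem lengthBound_succ {e : ℕ} (he : 1 ≤ e) (ih : LengthBound.{u} e) :
    LengthBound.{u} (e + 1) := by
  classical
  intro G _ _ _ hexp
  haveI : Fact (Nat.Prime 2) := ⟨Nat.prime_two⟩
  obtain ⟨G₁, _, _, f, E, hL⟩ := exists_layer (p := 2) (isPSolvable_of_isSolvable (G := G))
  haveI := hL.normal
  haveI : IsMulCommutative E := ⟨⟨fun a b => Subtype.ext (hL.comm a a.2 b b.2)⟩⟩
  set F := (QuotientGroup.mk' E).comp f with hF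
  have hFs : Function.Surjective F := (QuotientGroup.mk'_surjective E).comp hL.surj
  haveI : Group.IsSolvable (G₁ ⧸ E) := Group.isSolvable_of_surjective hFs
  refine pLengthLE_succ_of_map hFs hL.ker_eq ?_
  haveI : Module (ZMod 2) (Additive E) := AddCommGroup.zmodModule fun v => by
    apply Additive.toMul.injective
    rw [toMul_nsmul, toMul_zero]
    exact Subtype.ext (hL.pow _ (Additive.toMul v).2)
  haveI : FiniteDimensional (ZMod 2) (Additive E) := Module.Finite.of_finite
  set φ₁ : G₁ →* Module.End (ZMod 2) (Additive E) := endRep MulAut.conjNormal with hφ₁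
  have hker₁ : E = φ₁.ker := by rw [hφ₁, ker_endRep, ker_conjNormal hL.comm hL.centralizer_le]
  set ρ₁ : G₁ ⧸ E →* Module.End (ZMod 2) (Additive E) := QuotientGroup.lift E φ₁ hker₁.le with hρ₁
  have hρ₁inj : Function.Injective ρ₁ := by
    rw [injective_iff_map_eq_one]
    intro z hz
    obtain ⟨z, rfl⟩ := QuotientGroup.mk_surjective z
    rw [QuotientGroup.eq_one_iff, hker₁, MonoidHom.mem_ker]
    exact hz
  let K := AlgebraicClosure (ZMod 2)
  haveI : CharP K 2 := charP_of_injective_algebraMap (algebraMap (ZMod 2) K).injective 2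
  let β : Module.End (ZMod 2) (Additive E) →ₐ[ZMod 2] Module.End K (K ⊗[ZMod 2] Additive E) :=
    Module.End.baseChangeHom (ZMod 2) K (Additive E)
  have hβ : Function.Injective β := LinearMap.baseChangeHom_injective (ZMod 2) (Additive E) K
  let ρ : G₁ ⧸ E →* Module.End K (K ⊗[ZMod 2] Additive E) := β.toRingHom.toMonoidHom.comp ρ₁
  have hG₁ : TwoExp (e + 1) G₁ := hexp.of_surjective hL.surj
  have hnil : NoFree ρ e := by
    intro t k hk
    obtain ⟨s, l, rfl, hs⟩ := exists_two_lift (QuotientGroup.mk'_surjective E) hk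
    refine ⟨by rw [← map_pow, hG₁ s l hs, map_one], ?_⟩
    have h1 : (φ₁ s - 1) ^ (2 ^ (e + 1) - 1) = 0 := by
      refine LinearMap.ext fun w => ?_
      rw [sub_one_pow_pPow_sub_one, ← ofMul_toMul w, hφ₁, sum_endRep, LinearMap.zero_apply]
      apply Additive.toMul.injective
      rw [toMul_zero, toMul_ofMul]
      apply Subtype.ext
      have h := HallHigmanB.mul_pow_eq hL.comm (Additive.toMul w) s (2 ^ (e + 1))
      have hmem : (((Additive.toMul w : E) : G₁) * s) ^ 2 ^ l ∈ E := by
        rw [← QuotientGroup.eq_one_iff, QuotientGroup.mk_pow, QuotientGroup.mk_mul,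
          (QuotientGroup.eq_one_iff _).2 (Additive.toMul w).2, one_mul, ← QuotientGroup.mk_pow, hs,
          QuotientGroup.mk_one]
      rw [hG₁ _ (l + 1) (by rw [pow_succ, pow_mul]; exact hL.pow _ hmem), hG₁ s l hs, mul_one] at h
      exact h.symm
    show (β (φ₁ s) - 1) ^ (2 ^ (e + 1) - 1) = 0
    have h2 := congrArg β h1
    simpa [map_pow, map_sub, map_one] using h2
  exact pLengthLE_of_noFree ih he ρ (fun a b h => hρ₁inj (hβ h)) hL.pCore_eq_bot hnil

theorem lengthBound : ∀ e, LengthBound.{u} e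
  | 0 => lengthBound_zero
  | 1 => lengthBound_one
  | e + 2 => lengthBound_succ (Nat.le_add_left 1 e) (lengthBound (e + 1))

end Cfsg.Agent.Lib.ExpTwoLength71
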