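import Cfsg.Agent.Lib.ExpTwoLength71.Basic
import Cfsg.Agent.Lib.OddMax.Sec10.PLength

/-!
# A module without long free cycles lowers the `2`-length of what acts on it

If the bound holds at exponent `2 ^ e` and `Y` acts on an elementary abelian `2`-group `M` so that
the norms of `2`-elements over `2 ^ e` steps vanish, then a normal subgroup `K` of `Y` with `Y ⧸ K` of
`2`-length less than `e` has all its elements of odd order acting trivially.
-/

set_option autoImplicit false
set_option linter.style.haveILetI false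

namespace Cfsg.Agent.Lib.ExpTwoLength71

open Subgroup Cfsg
open Cfsg.Agent.Lib.PSolvable

universe u

/-- The bound at exponent `2 ^ e`. -/
def LengthBound (e : ℕ) : Prop :=
  ∀ (G : Type u) [Group G] [Finite G] [Group.IsSolvable G], TwoExp e G → PLengthLE 2 e G

variable {M : Type u} [CommGroup M] [Finite M]

instance : Finite (MulAut M) :=
  Finite.of_injective (fun f : MulAut M => (f : M → M)) DFunLike.coe_injective

theorem semidirect_pow_left {X : Subgroup (MulAut M)} (g : SemidirectProduct M X X.subtype) (n : ℕ) :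
    (g ^ n).right = g.right ^ n ∧
      (g ^ n).left = ∏ i ∈ Finset.range n, ((g.right ^ i : X) : MulAut M) g.left := by
  induction n with
  | zero => simp
  | succ n ih =>
    rw [pow_succ, SemidirectProduct.mul_right, SemidirectProduct.mul_left, ih.1, ih.2,
      Finset.prod_range_succ, pow_succ g.right]
    exact ⟨rfl, rfl⟩

/-- The irreducible faithful case. -/
theorem pLengthLE_of_norm {e : ℕ} (ih : LengthBound.{u} e) (he : 1 ≤ e) (hM2 : ∀ m : M, m ^ 2 = 1)
    (X : Subgroup (MulAut M)) [Group.IsSolvable X] (hO : pCore 2 X = ⊥)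
    (hnorm : ∀ (x : X) (k : ℕ), x ^ 2 ^ k = 1 → x ^ 2 ^ e = 1 ∧
      ∀ m, ∏ i ∈ Finset.range (2 ^ e), ((x ^ i : X) : MulAut M) m = 1) :
    PLengthLE 2 (e - 1) X := by
  haveI : Fact (Nat.Prime 2) := ⟨Nat.prime_two⟩
  set G' := SemidirectProduct M X X.subtype
  haveI : Finite G' := Finite.of_equiv _ SemidirectProduct.equivProd.symm
  haveI : Group.IsSolvable G' := Group.isSolvable_of_ker_le_range
    (SemidirectProduct.inl : M →* G') (SemidirectProduct.rightHom : G' →* X)
    SemidirectProduct.range_inl_eq_ker_rightHom.ge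
  have hexp : TwoExp e G' := by
    intro g k hg
    have hr : g.right ^ 2 ^ k = 1 := by rw [← (semidirect_pow_left g _).1, hg]; rfl
    obtain ⟨h1, h2⟩ := hnorm g.right k hr
    refine SemidirectProduct.ext ?_ ?_
    · rw [(semidirect_pow_left g _).2, h2]; rfl
    · rw [(semidirect_pow_left g _).1, h1]; rfl
  have hl : PLengthLE 2 e G' := ih G' hexp
  set r : G' →* X := SemidirectProduct.rightHom with hr
  have hrs : Function.Surjective r := SemidirectProduct.rightHom_surjective
  have hk2 : ∀ z ∈ r.ker, z ^ 2 = 1 := by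
    intro z hz
    rw [hr, ← SemidirectProduct.range_inl_eq_ker_rightHom] at hz
    obtain ⟨m, rfl⟩ := hz
    rw [← map_pow, hM2, map_one]
  have hN : pPrimeCore 2 G' = ⊥ := by
    haveI : (pPrimeCore 2 G').Normal := @normal_of_characteristic _ _ _ pPrimeCore_characteristic
    have hmeet : ∀ z ∈ pPrimeCore 2 G', z ∈ r.ker → z = 1 := fun z hz hzk => by
      rw [← orderOf_eq_one_iff]
      exact Nat.eq_one_of_dvd_coprimes (pPrimeCore_coprime (p := 2) (G := G'))
        (Subgroup.orderOf_dvd_natCard _ hz) (orderOf_dvd_of_pow_eq_one (hk2 z hzk))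
    rw [eq_bot_iff]
    intro x hx
    refine mem_bot.2 (hmeet x hx (MonoidHom.mem_ker.2 ?_))
    apply Subtype.ext
    refine MulEquiv.ext fun m => ?_
    have h1 : x * SemidirectProduct.inl m * x⁻¹ * (SemidirectProduct.inl m : G')⁻¹ = 1 := by
      refine hmeet _ ?_ ?_
      · rw [show x * SemidirectProduct.inl m * x⁻¹ * (SemidirectProduct.inl m : G')⁻¹ =
          x * (SemidirectProduct.inl m * x⁻¹ * (SemidirectProduct.inl m : G')⁻¹) by group]
        exact mul_mem hx (Subgroup.Normal.conj_mem inferInstance _ (inv_mem hx) _)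
      · have hrm : r (SemidirectProduct.inl m) = 1 := SemidirectProduct.rightHom_inl m
        rw [MonoidHom.mem_ker, map_mul, map_mul, map_mul, map_inv, map_inv, hrm]
        group
    have h1' := mul_inv_eq_iff_eq_mul.1 (mul_inv_eq_one.1 h1)
    have h2 := congrArg SemidirectProduct.left h1'
    rw [SemidirectProduct.mul_left, SemidirectProduct.mul_left, SemidirectProduct.left_inl,
      SemidirectProduct.right_inl, map_one, MulAut.one_apply, mul_comm m] at h2
    exact mul_left_cancel h2
  have hker : r.ker = (upperPSeries 2 G' 2).1 := by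
    rw [OddMax.Sec10.upperPSeries_two]
    haveI : (pPrimePCore 2 G').Normal := pPrimePCore_normal
    refine le_antisymm (OddMax.Sec10.le_pPrimePCore_of_pow_mem fun z hz => ⟨1, ?_⟩) ?_
    · rw [pow_one, hk2 z hz]; exact one_mem _
    · haveI : ((pPrimePCore 2 G').map r).Normal := Normal.map inferInstance r hrs
      have h2 : IsPGroup 2 ((pPrimePCore 2 G').map r) := by
        rintro ⟨_, z, hz, rfl⟩
        obtain ⟨k, hk⟩ := OddMax.Sec10.exists_pow_mem_pPrimeCore hz
        rw [hN, mem_bot] at hk
        exact ⟨k, Subtype.ext (by rw [SubmonoidClass.coe_pow, ← map_pow, hk, map_one]; rfl)⟩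
      exact (Subgroup.map_eq_bot_iff _).1 (le_bot_iff.1 ((le_pCore h2).trans hO.le))
  have hc := comap_upperPSeries (p := 2) hrs (by norm_num : Even 2) hker (2 * (e - 1) + 1)
  unfold PLengthLE at hl ⊢
  rw [show 2 * (e - 1) + 1 + 2 = 2 * e + 1 by omega, hl] at hc
  exact comap_injective hrs (hc.trans (comap_top r).symm)

omit [Finite M] in
/-- Vanishing norms make the `2 ^ e`-th power trivial. -/
theorem pow_eq_one_of_norm {Y : Type u} [Group Y] (α : Y →* MulAut M) {y : Y} {n : ℕ}
    (h : ∀ m, ∏ i ∈ Finset.range n, α (y ^ i) m = 1) : α (y ^ n) = 1 := by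
  refine MulEquiv.ext fun m => ?_
  have h1 := Finset.prod_range_succ (fun i => α (y ^ i) m) n
  have h2 := Finset.prod_range_succ' (fun i => α (y ^ i) m) n
  simp only [h m, one_mul, pow_zero, map_one, MulAut.one_apply] at h1 h2
  have h3 : ∏ i ∈ Finset.range n, α (y ^ (i + 1)) m = 1 := by
    refine (Finset.prod_congr rfl fun i _ => ?_).trans ((map_prod (α y) (fun i => α (y ^ i) m) _).symm.trans ?_)
    · rw [pow_succ', map_mul, MulAut.mul_apply]
    · rw [h m, map_one]
  rw [h3, one_mul, h1] at h2
  rw [MulAut.one_apply, h2]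

/-- An invariant subgroup gives the action on it and on the factor. -/
theorem exists_restrict {Y : Type u} [Group Y] (α : Y →* MulAut M) (N : Subgroup M)
    (hN : ∀ y, ∀ n ∈ N, α y n ∈ N) :
    ∃ (α₁ : Y →* MulAut N) (α₂ : Y →* MulAut (M ⧸ N)),
      (∀ y (n : N), ((α₁ y n : N) : M) = α y n) ∧ ∀ y (m : M), α₂ y (m : M ⧸ N) = (α y m : M ⧸ N) := by
  have hinv : ∀ (y : Y) (m : M), α y⁻¹ (α y m) = m := fun y m => by
    rw [← MulAut.mul_apply, ← map_mul, inv_mul_cancel, map_one, MulAut.one_apply]
  have hinv' : ∀ (y : Y) (m : M), α y (α y⁻¹ m) = m := fun y m => by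
    rw [← MulAut.mul_apply, ← map_mul, mul_inv_cancel, map_one, MulAut.one_apply]
  let f : Y → (M ⧸ N) →* M ⧸ N := fun y =>
    QuotientGroup.map N N (α y).toMonoidHom fun n hn => hN y n hn
  refine ⟨MonoidHom.mk' (fun y =>
    { toFun := fun n => ⟨α y n, hN y n n.2⟩
      invFun := fun n => ⟨α y⁻¹ n, hN y⁻¹ n n.2⟩
      left_inv := fun n => Subtype.ext (hinv y n)
      right_inv := fun n => Subtype.ext (hinv' y n)
      map_mul' := fun a b => Subtype.ext (map_mul (α y) (a : M) (b : M)) })
    (fun a b => MulEquiv.ext fun n => Subtype.ext (DFunLike.congr_fun (map_mul α a b) (n : M))),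
    MonoidHom.mk' (fun y =>
    { toFun := f y
      invFun := f y⁻¹
      left_inv := fun x => by
        induction x using QuotientGroup.induction_on with
        | _ m => exact congrArg QuotientGroup.mk (hinv y m)
      right_inv := fun x => by
        induction x using QuotientGroup.induction_on with
        | _ m => exact congrArg QuotientGroup.mk (hinv' y m)
      map_mul' := map_mul (f y) })
    (fun a b => MulEquiv.ext fun x => by
      induction x using QuotientGroup.induction_on with
      | _ m => exact congrArg QuotientGroup.mk (DFunLike.congr_fun (map_mul α a b) m)),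
    fun y n => rfl, fun y m => rfl⟩

set_option maxHeartbeats 800000 in
/-- **The kernel of small colength.** -/
theorem exists_kernel {e : ℕ} (ih : LengthBound.{u} e) (he : 1 ≤ e) :
    ∀ (n : ℕ) {Y : Type u} [Group Y] [Finite Y] [Group.IsSolvable Y] (M : Type u) [CommGroup M]
      [Finite M] (α : Y →* MulAut M), Nat.card M ≤ n → (∀ m : M, m ^ 2 = 1) →
      (∀ (y : Y) (k : ℕ), y ^ 2 ^ k = 1 → ∀ m, ∏ i ∈ Finset.range (2 ^ e), α (y ^ i) m = 1) →
      ∃ (K : Subgroup Y) (_ : K.Normal),
        PLengthLE 2 (e - 1) (Y ⧸ K) ∧ ∀ x ∈ K, Odd (orderOf x) → α x = 1 := by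
  haveI : Fact (Nat.Prime 2) := ⟨Nat.prime_two⟩
  intro n
  induction n with
  | zero =>
    intro Y _ _ _ M _ _ α hn
    exact absurd hn (Nat.not_le.2 Nat.card_pos)
  | succ n ihn =>
    intro Y _ _ _ M _ _ α hn hM2 hnorm
    by_cases htriv : ∀ m : M, m = 1
    · refine ⟨⊤, inferInstance, pLengthLE_zero_of_coprime ?_ |> pLengthLE_mono (Nat.zero_le _), ?_⟩
      · rw [← index_eq_card, index_top]
        exact Nat.coprime_one_left 2
      · intro x _ _
        exact MulEquiv.ext fun m => (htriv _).trans (htriv _).symm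
    push Not at htriv
    obtain ⟨m₀, hm₀⟩ := htriv
    by_cases hred : ∃ N : Subgroup M, N ≠ ⊥ ∧ N ≠ ⊤ ∧ ∀ y, ∀ m ∈ N, α y m ∈ N
    · obtain ⟨N, hNb, hNt, hNi⟩ := hred
      obtain ⟨α₁, α₂, h₁, h₂⟩ := exists_restrict α N hNi
      have hmul := card_eq_card_quotient_mul_card_subgroup N
      have hN2 : 2 ≤ Nat.card N := (one_lt_card_iff_ne_bot N).2 hNb
      have hQ2 : 2 ≤ Nat.card (M ⧸ N) := by
        rw [← index_eq_card]
        exact one_lt_index_of_ne_top hNt
      have hcN : Nat.card N ≤ n := by nlinarith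
      have hcQ : Nat.card (M ⧸ N) ≤ n := by nlinarith
      obtain ⟨K₁, _, hK₁, hK₁'⟩ := ihn N α₁ hcN (fun m => Subtype.ext (hM2 m)) fun y k hk m =>
        Subtype.ext (by
          rw [SubmonoidClass.coe_finset_prod]
          simp only [h₁]
          exact hnorm y k hk m)
      obtain ⟨K₂, _, hK₂, hK₂'⟩ := ihn (M ⧸ N) α₂ hcQ
        (fun x => by
          induction x using QuotientGroup.induction_on with
          | _ m => rw [← QuotientGroup.mk_pow, hM2]; rfl)
        fun y k hk x => by
          induction x using QuotientGroup.induction_on with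
          | _ m =>
            simp only [h₂]
            exact ((map_prod (QuotientGroup.mk' N) (fun i => α (y ^ i) m) _).symm.trans
              (by rw [hnorm y k hk m, map_one]))
      refine ⟨K₁ ⊓ K₂, inferInstance, pLengthLE_quotient_inf hK₁ hK₂, fun x hx hxo => ?_⟩
      have hfix : ∀ m ∈ N, α x m = m := fun m hm => by
        rw [← h₁ x ⟨m, hm⟩, hK₁' x hx.1 hxo]
        rfl
      refine MulEquiv.ext fun m => ?_
      rw [MulAut.one_apply]
      have hd : α x m / m ∈ N := by
        rw [← QuotientGroup.eq_iff_div_mem, ← h₂, hK₂' x hx.2 hxo]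
        rfl
      have hit : ∀ j : ℕ, α (x ^ j) m = (α x m / m) ^ j * m := by
        intro j
        induction j with
        | zero => simp
        | succ j ihj =>
          rw [pow_succ', map_mul, MulAut.mul_apply, ihj, map_mul, map_pow (α x), hfix _ hd,
            pow_succ, mul_assoc, div_mul_cancel]
      have hone := hit (orderOf x)
      rw [pow_orderOf_eq_one, map_one, MulAut.one_apply] at hone
      exact div_eq_one.1 (odd_pow_eq_one (right_eq_mul.1 hone) (n := 1) (by rw [pow_one, hM2]) hxo)
    push Not at hred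
    haveI : Group.IsSolvable α.range := Group.isSolvable_of_surjective α.rangeRestrict_surjective
    have hO : pCore 2 α.range = ⊥ := by
      set A := pCore 2 α.range
      have hA : IsPGroup 2 A := pCore_isPGroup
      have h2M : 2 ∣ Nat.card M := by
        rw [← orderOf_eq_prime (hM2 m₀) hm₀]
        exact orderOf_dvd_natCard m₀
      obtain ⟨b, hb, hb1⟩ := hA.exists_fixed_point_of_prime_dvd_card_of_fixed_point M h2M (a := 1)
        (fun g => map_one ((g : α.range) : MulAut M))
      let F : Subgroup M :=
        { carrier := {m | ∀ g ∈ A, ((g : α.range) : MulAut M) m = m}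
          one_mem' := fun g _ => map_one _
          mul_mem' := fun {a c} ha hc g hg => by rw [map_mul, ha g hg, hc g hg]
          inv_mem' := fun {a} ha g hg => by rw [map_inv, ha g hg] }
      have hFne : F ≠ ⊥ := fun h => hb1 (mem_bot.1 (h ▸ (fun g hg => hb ⟨g, hg⟩ : b ∈ F))).symm
      have hFtop : F = ⊤ := by
        by_contra hne
        obtain ⟨y, m, hm, hym⟩ := hred F hFne hne
        refine hym fun g hg => ?_
        have h1 := hm _ (Subgroup.Normal.conj_mem inferInstance g hg (α.rangeRestrict y)⁻¹)
        rw [inv_inv, Subgroup.coe_mul, Subgroup.coe_mul, InvMemClass.coe_inv,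
          MonoidHom.coe_rangeRestrict, MulAut.mul_apply, MulAut.mul_apply] at h1
        have h2 := congrArg (α y) h1
        rwa [← MulAut.mul_apply, mul_inv_cancel, MulAut.one_apply] at h2
      rw [eq_bot_iff]
      intro g hg
      refine mem_bot.2 (Subtype.ext (MulEquiv.ext fun m => ?_))
      exact (hFtop ▸ mem_top m : m ∈ F) g hg
    have hX : PLengthLE 2 (e - 1) α.range := by
      refine pLengthLE_of_norm ih he hM2 α.range hO fun x k hx => ?_
      obtain ⟨y, l, rfl, hy⟩ := exists_two_lift α.rangeRestrict_surjective hx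
      refine ⟨?_, fun m => ?_⟩
      · rw [← map_pow]
        exact Subtype.ext (pow_eq_one_of_norm α (hnorm y l hy))
      · simp only [← map_pow, MonoidHom.coe_rangeRestrict]
        exact hnorm y l hy m
    exact ⟨α.ker, inferInstance, PLengthBound.pLengthLE_of_surjective
      (f := (QuotientGroup.quotientKerEquivRange α).symm.toMonoidHom)
      (QuotientGroup.quotientKerEquivRange α).symm.surjective hX, fun x hx _ => hx⟩

end Cfsg.Agent.Lib.ExpTwoLength71
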